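import Cfsg.Agent.Lib.J3Type.AltSix

/-!
A relation in `A₆`: two involutions centralising an inverting involution of a 5-element.
-/

set_option autoImplicit false
set_option synthInstance.maxSize 512

namespace CfsgLib.J3Uniq

open CfsgLib.J3Type

/-- The inverting involution. -/
def s0 : Equiv.Perm (Fin 6) := Equiv.swap 1 4 * Equiv.swap 2 3

/-- The possible involutions. -/
def cand : List (Equiv.Perm (Fin 6)) :=
  [Equiv.swap 1 3 * Equiv.swap 2 4, Equiv.swap 0 5 * Equiv.swap 2 3]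

theorem inverters : ∀ s : Equiv.Perm (Fin 6), s * s = 1 → s * cyc5 * s = cyc5⁻¹ → s ≠ 1 →
    ∃ i : Fin 5, cyc5 ^ (i : ℕ) * s0 * (cyc5 ^ (i : ℕ))⁻¹ = s := by
  decide +kernel

theorem cand_pos : ∀ e : Equiv.Perm (Fin 6), e * e = 1 → e * s0 = s0 * e → (e * cyc5) ^ 5 = 1 →
    (e * cyc5 * cyc5) ^ 3 = 1 → s0 * e * cyc5⁻¹ * e * cyc5 * e * cyc5⁻¹ = 1 → e ∈ cand := by
  decide +kernel

theorem cand_neg : ∀ e : Equiv.Perm (Fin 6), e * e = 1 → e * s0 = s0 * e → (e * cyc5⁻¹) ^ 5 = 1 →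
    (e * cyc5⁻¹ * cyc5⁻¹) ^ 3 = 1 → s0 * e * cyc5 * e * cyc5⁻¹ * e * cyc5 = 1 → e ∈ cand := by
  decide +kernel

theorem cand_rel : (cand.all fun e => cand.all fun d => decide ((e * cyc5 * d) ^ 5 = 1)) = true := by
  decide +kernel

/-- The relation. -/
theorem perm6_rel {f s e d : Equiv.Perm (Fin 6)} (f5 : f ^ 5 = 1) (f1 : f ≠ 1) (s2 : s * s = 1) (s1 : s ≠ 1)
    (sf : s * f * s = f⁻¹) (e2 : e * e = 1) (es : e * s = s * e) (d2 : d * d = 1) (ds : d * s = s * d)
    (ef : (e * f) ^ 5 = 1) (eff : (e * f * f) ^ 3 = 1) (sef : s * e * f⁻¹ * e * f * e * f⁻¹ = 1)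
    (df : (d * f⁻¹) ^ 5 = 1) (dff : (d * f⁻¹ * f⁻¹) ^ 3 = 1) (sdf : s * d * f * d * f⁻¹ * d * f = 1) :
    (e * f * d) ^ 5 = 1 := by
  obtain ⟨g, hg⟩ := perm6_five_conj f5 f1
  let φ : Equiv.Perm (Fin 6) ≃* Equiv.Perm (Fin 6) := (MulAut.conj g).symm
  have hφf : φ f = cyc5 := by
    apply (MulAut.conj g).injective
    rw [MulEquiv.apply_symm_apply, MulAut.conj_apply, hg]
  obtain ⟨i, hi⟩ := inverters (φ s) (by rw [← map_mul, s2, map_one])
    (by rw [← hφf, ← map_mul, ← map_mul, ← map_inv, sf])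
    (fun h => s1 (φ.injective (h.trans (map_one φ).symm)))
  let ψ : Equiv.Perm (Fin 6) ≃* Equiv.Perm (Fin 6) :=
    φ.trans (MulAut.conj (cyc5 ^ (i : ℕ))).symm
  have hψf : ψ f = cyc5 := by
    apply (MulAut.conj (cyc5 ^ (i : ℕ))).injective
    show MulAut.conj (cyc5 ^ (i : ℕ)) ((MulAut.conj (cyc5 ^ (i : ℕ))).symm (φ f)) = _
    rw [MulEquiv.apply_symm_apply, hφf, MulAut.conj_apply, (Commute.self_pow cyc5 (i : ℕ)).eq.symm,
      mul_inv_cancel_right]
  have hψs : ψ s = s0 := by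
    apply (MulAut.conj (cyc5 ^ (i : ℕ))).injective
    show MulAut.conj (cyc5 ^ (i : ℕ)) ((MulAut.conj (cyc5 ^ (i : ℕ))).symm (φ s)) = _
    rw [MulEquiv.apply_symm_apply, MulAut.conj_apply, hi]
  have key : ∀ {x y : Equiv.Perm (Fin 6)}, x = y → ψ x = ψ y := fun h => congrArg ψ h
  have hE := cand_pos (ψ e)
    (by simpa only [map_mul, map_one] using key e2)
    (by simpa only [map_mul, hψs] using key es)
    (by simpa only [map_mul, map_pow, map_one, hψf] using key ef)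
    (by simpa only [map_mul, map_pow, map_one, hψf] using key eff)
    (by simpa only [map_mul, map_inv, map_one, hψf, hψs] using key sef)
  have hD := cand_neg (ψ d)
    (by simpa only [map_mul, map_one] using key d2)
    (by simpa only [map_mul, hψs] using key ds)
    (by simpa only [map_mul, map_pow, map_inv, map_one, hψf] using key df)
    (by simpa only [map_mul, map_pow, map_inv, map_one, hψf] using key dff)
    (by simpa only [map_mul, map_inv, map_one, hψf, hψs] using key sdf)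
  have h := List.all_eq_true.1 (List.all_eq_true.1 cand_rel _ hE) _ hD
  rw [decide_eq_true_eq] at h
  apply ψ.injective
  rw [map_pow, map_mul, map_mul, map_one, hψf, h]

end CfsgLib.J3Uniq
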