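import Mathlib.GroupTheory.Subgroup.Centralizer
import Mathlib.Tactic.Group
import Mathlib

/-!
Coordinates on an elementary abelian group of order 16 and linear maps on them.
-/

set_option autoImplicit false

namespace CfsgLib.J3Uniq

/-- Four bits. -/
abbrev V := Bool × Bool × Bool × Bool

/-- Sum of bit vectors. -/
def vadd : V → V → V := fun (a, b, c, d) (a', b', c', d') => (xor a a', xor b b', xor c c', xor d d')

/-- The zero vector. -/
def vzero : V := (false, false, false, false)

/-- A vector or zero. -/
def vsel (b : Bool) (c : V) : V := if b then c else vzero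

/-- The linear map with the given columns. -/
def lin (c0 c1 c2 c3 : V) : V → V := fun (b0, b1, b2, b3) =>
  vadd (vadd (vadd (vsel b0 c0) (vsel b1 c1)) (vsel b2 c2)) (vsel b3 c3)

/-- Conjugation by `f`. -/
def mF : V → V :=
  lin (false, true, false, false) (false, false, true, false) (false, false, false, true) (true, true, true, true)

/-- Conjugation by `r`. -/
def mR : V → V :=
  lin (false, false, true, true) (true, true, true, false) (false, true, true, true) (true, true, false, false)

/-- Conjugation by `σ`. -/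
def mS : V → V :=
  lin (true, false, false, false) (true, true, true, true) (false, false, false, true) (false, false, true, false)

/-- Conjugation by `e`. -/
def mE : V → V :=
  lin (true, false, false, false) (true, true, false, false) (true, false, false, true) (true, false, true, false)

/-- Conjugation by a letter. -/
def mLet : ℕ → V → V
  | 1 => mF
  | 2 => mF ∘ mF ∘ mF ∘ mF
  | 3 => mR
  | 4 => mR ∘ mR
  | 5 => mS
  | 7 => mE
  | _ => id

/-- Conjugation by a word. -/
def mWord : List ℕ → V → V
  | [] => id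
  | g :: w => mLet g ∘ mWord w

theorem fixed_cases : ∀ c : V, mS c ≠ c ∨ c = vzero ∨ c = (true, false, false, false) ∨
    c = (false, false, true, true) ∨ c = (true, false, true, true) := by decide

theorem fixed_pair (c : V) (h : mS c = c) (h0 : c ≠ vzero) (h1 : c ≠ (true, false, false, false)) :
    c = (false, false, true, true) ∨ c = (true, false, true, true) :=
  (((fixed_cases c).resolve_left fun e => e h).resolve_left h0).resolve_left h1

theorem lin_id : ∀ b : V, lin (true, false, false, false) (false, true, false, false) (false, false, true, false)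
    (false, false, false, true) b = b := by decide

variable {G : Type*} [Group G]

/-- An element or one. -/
def sel (b : Bool) (a : G) : G := if b then a else 1

/-- The element of a bit vector. -/
def vec (a : ℕ → G) : V → G := fun (b0, b1, b2, b3) => sel b0 (a 0) * sel b1 (a 1) * sel b2 (a 2) * sel b3 (a 3)

@[simp] theorem vec_zero (a : ℕ → G) : vec a vzero = 1 := by simp [vec, vzero, sel]

theorem vec_e0 (a : ℕ → G) : vec a (true, false, false, false) = a 0 := by simp [vec, sel]
theorem vec_e1 (a : ℕ → G) : vec a (false, true, false, false) = a 1 := by simp [vec, sel]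
theorem vec_e2 (a : ℕ → G) : vec a (false, false, true, false) = a 2 := by simp [vec, sel]
theorem vec_e3 (a : ℕ → G) : vec a (false, false, false, true) = a 3 := by simp [vec, sel]

variable {A : Subgroup G}

theorem sel_mem {a : G} (b : Bool) (ha : a ∈ A) : sel b a ∈ A := by
  unfold sel; split
  exacts [ha, A.one_mem]

theorem comm_of_sq (hA : ∀ x ∈ A, x * x = 1) {x y : G} (hx : x ∈ A) (hy : y ∈ A) : Commute x y := by
  calc x * y = (x * y)⁻¹ := (inv_eq_of_mul_eq_one_right (hA _ (A.mul_mem hx hy))).symm
    _ = y * x := by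
      rw [mul_inv_rev, inv_eq_of_mul_eq_one_right (hA x hx), inv_eq_of_mul_eq_one_right (hA y hy)]

theorem sel_xor {a : G} (b c : Bool) (ha : a * a = 1) : sel b a * sel c a = sel (xor b c) a := by
  cases b <;> cases c <;> simp [sel, ha]

variable (a : ℕ → G) (hA : ∀ x ∈ A, x * x = 1) (ha : ∀ i, a i ∈ A)
include hA ha

omit hA in
theorem vec_mem (b : V) : vec a b ∈ A :=
  A.mul_mem (A.mul_mem (A.mul_mem (sel_mem _ (ha 0)) (sel_mem _ (ha 1))) (sel_mem _ (ha 2))) (sel_mem _ (ha 3))

theorem vec_mul (b c : V) : vec a b * vec a c = vec a (vadd b c) := by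
  obtain ⟨b0, b1, b2, b3⟩ := b
  obtain ⟨c0, c1, c2, c3⟩ := c
  have hm : ∀ i (x : Bool), sel x (a i) ∈ A := fun i x => sel_mem x (ha i)
  simp only [vec, vadd]
  rw [(comm_of_sq hA (hm 3 b3) (A.mul_mem (A.mul_mem (hm 0 c0) (hm 1 c1)) (hm 2 c2))).mul_mul_mul_comm,
    (comm_of_sq hA (hm 2 b2) (A.mul_mem (hm 0 c0) (hm 1 c1))).mul_mul_mul_comm,
    (comm_of_sq hA (hm 1 b1) (hm 0 c0)).mul_mul_mul_comm,
    sel_xor _ _ (hA _ (ha 0)), sel_xor _ _ (hA _ (ha 1)), sel_xor _ _ (hA _ (ha 2)), sel_xor _ _ (hA _ (ha 3))]

omit hA ha in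
theorem conj_sel (n : G) (x : Bool) (y : G) (c : V) (h : n * y * n⁻¹ = vec a c) :
    n * sel x y * n⁻¹ = vec a (vsel x c) := by
  cases x <;> simp [sel, vsel, h]

/-- Conjugation is the linear map of its values on the basis. -/
theorem conj_lin {n : G} {c0 c1 c2 c3 : V} (h0 : n * a 0 * n⁻¹ = vec a c0) (h1 : n * a 1 * n⁻¹ = vec a c1)
    (h2 : n * a 2 * n⁻¹ = vec a c2) (h3 : n * a 3 * n⁻¹ = vec a c3) (b : V) :
    n * vec a b * n⁻¹ = vec a (lin c0 c1 c2 c3 b) := by
  obtain ⟨b0, b1, b2, b3⟩ := b
  simp only [lin]
  rw [← vec_mul a hA ha, ← vec_mul a hA ha, ← vec_mul a hA ha, ← conj_sel a n b0 _ _ h0,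
    ← conj_sel a n b1 _ _ h1, ← conj_sel a n b2 _ _ h2, ← conj_sel a n b3 _ _ h3, vec]
  group

end CfsgLib.J3Uniq
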