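import Cfsg.Agent.Lib.J3Uniq.CheckMStep0
import Cfsg.Agent.Lib.J3Uniq.CheckMStep1
import Cfsg.Agent.Lib.J3Uniq.CheckMStep2
import Cfsg.Agent.Lib.J3Uniq.CheckMStep3
import Cfsg.Agent.Lib.J3Uniq.CheckMStep4
import Cfsg.Agent.Lib.J3Uniq.CheckMStep5
import Cfsg.Agent.Lib.J3Uniq.CheckMStep6
import Cfsg.Agent.Lib.J3Uniq.CheckMStep7
import Cfsg.Agent.Lib.J3Uniq.CheckMStep8
import Cfsg.Agent.Lib.J3Uniq.CheckMStep9
import Cfsg.Agent.Lib.CosetEnum.Blocks
import Cfsg.Agent.Lib.J3Uniq.DataM

/-!
Kernel checks of coset enumeration data.
-/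

set_option autoImplicit false
set_option Elab.async false

namespace CfsgLib.J3Uniq
open CfsgLib.CosetEnum

theorem certM_entry0 : allUp certM.entryOK' 13 (0 * 2 ^ 13) = true := by decide +kernel

theorem certM_entry1 : allUp certM.entryOK' 13 (1 * 2 ^ 13) = true := by decide +kernel

theorem certM_entry2 : allUp certM.entryOK' 13 (2 * 2 ^ 13) = true := by decide +kernel

theorem certM_entry3 : allUp certM.entryOK' 13 (3 * 2 ^ 13) = true := by decide +kernel

theorem certM_complete : certM.Complete :=
  Cert.complete_of_blocks₂ _ (k := 13) (n := 10) (k₂ := 13) (n₂ := 4) (by decide +kernel)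
    (fun j hj => by
      match j, hj with
      | 0, _ => exact certM_step0
      | 1, _ => exact certM_step1
      | 2, _ => exact certM_step2
      | 3, _ => exact certM_step3
      | 4, _ => exact certM_step4
      | 5, _ => exact certM_step5
      | 6, _ => exact certM_step6
      | 7, _ => exact certM_step7
      | 8, _ => exact certM_step8
      | 9, _ => exact certM_step9
      | n + 10, h => omega)
    (by decide +kernel)
    (fun j hj => by
      match j, hj with
      | 0, _ => exact certM_entry0
      | 1, _ => exact certM_entry1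
      | 2, _ => exact certM_entry2
      | 3, _ => exact certM_entry3
      | n + 4, h => omega)
    (by decide +kernel)

end CfsgLib.J3Uniq
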