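import Cfsg.Agent.Lib.J3Type.SL16
import Cfsg.Agent.Lib.J3Uniq.Bits
import Cfsg.Agent.Lib.CosetEnum.Sound

/-!
Six generators of a group of J₃ type: the coordinates of the elementary abelian subgroup of order 16 and
the element commuting with the element of order 3.
-/

set_option autoImplicit false

namespace CfsgLib.J3Uniq

open CfsgLib.J3Type CfsgLib.CosetEnum

variable {G : Type*} [Group G]

/-- Conjugates by powers. -/
def ai (f v : G) (i : ℕ) : G := f ^ i * v * (f ^ i)⁻¹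

/-- The letters. -/
def gen (v f r σ j e : G) : ℕ → G
  | 0 => v
  | 1 => f
  | 2 => f⁻¹
  | 3 => r
  | 4 => r⁻¹
  | 5 => σ
  | 6 => j
  | 7 => e
  | _ => 1

/-- Torus and braid. -/
structure Tor (t k v f r σ j : G) (E K C : Subgroup G) : Prop where
  P : Klein t k E K C
  T : TorusData (AK C k) r f σ j
  v_mem : v ∈ AK C k
  v_ne : v ≠ 1
  σ_v : σ * v = v * σ
  braid : (v * j) ^ 3 = 1

variable [Finite G] {t k v f r σ j e : G} {E K C : Subgroup G}

namespace Tor

variable (W : Tor t k v f r σ j E K C)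
include W

theorem sqA : ∀ x ∈ AK C k, x * x = 1 := fun _ hx => W.P.AK_sq hx

theorem f5 : f ^ 5 = 1 := W.T.f_ord ▸ pow_orderOf_eq_one f

theorem r3 : r ^ 3 = 1 := W.T.r_ord ▸ pow_orderOf_eq_one r

theorem ai_mem (i : ℕ) : ai f v i ∈ AK C k := W.P.conj_N (Subgroup.pow_mem _ W.T.f_mem i) W.v_mem

theorem vecA (b : V) : vec (ai f v) b ∈ AK C k := vec_mem _ W.ai_mem b

theorem vmul (b c : V) : vec (ai f v) b * vec (ai f v) c = vec (ai f v) (vadd b c) :=
  vec_mul _ W.sqA W.ai_mem b c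

omit W in
theorem ai_zero : ai f v 0 = v := by simp [ai]

omit W in
theorem ai_succ (i : ℕ) : f * ai f v i * f⁻¹ = ai f v (i + 1) := by
  simp [ai, pow_succ', mul_assoc]

theorem a_five : ai f v 5 = v := by simp [ai, W.f5]

theorem a_four : ai f v 4 = vec (ai f v) (true, true, true, true) := by
  have hc : ∀ i l, Commute (ai f v i) (ai f v l) := fun i l => comm_of_sq W.sqA (W.ai_mem i) (W.ai_mem l)
  set X := vec (ai f v) (true, true, true, true) with hX
  have hXe : X = ai f v 0 * ai f v 1 * ai f v 2 * ai f v 3 := by simp [hX, vec, sel]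
  have hfix : X * ai f v 4 = 1 := by
    refine W.T.f_fpf _ ((AK C k).mul_mem (W.vecA _) (W.ai_mem 4)) (mul_inv_eq_iff_eq_mul.1 ?_).symm
    calc f * (X * ai f v 4) * f⁻¹ = (f * ai f v 0 * f⁻¹) * (f * ai f v 1 * f⁻¹) * (f * ai f v 2 * f⁻¹) *
          (f * ai f v 3 * f⁻¹) * (f * ai f v 4 * f⁻¹) := by rw [hXe]; group
      _ = ai f v 1 * ai f v 2 * ai f v 3 * ai f v 4 * ai f v 0 := by
          rw [ai_succ, ai_succ, ai_succ, ai_succ, ai_succ, W.a_five, ai_zero]
      _ = X * ai f v 4 := by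
          rw [hXe, ← ((((hc 0 1).mul_right (hc 0 2)).mul_right (hc 0 3)).mul_right (hc 0 4)).eq]
          group
  rw [eq_inv_of_mul_eq_one_right hfix, inv_eq_of_mul_eq_one_right (W.sqA X (W.vecA _))]

theorem conj_f (b : V) : f * vec (ai f v) b * f⁻¹ = vec (ai f v) (mF b) :=
  conj_lin _ W.sqA W.ai_mem (by rw [ai_succ, vec_e1]) (by rw [ai_succ, vec_e2]) (by rw [ai_succ, vec_e3])
    (by rw [ai_succ, W.a_four]) b

omit W in
theorem conj_ai (n : G) (i : ℕ) (hn : n * f * n⁻¹ = f) :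
    n * ai f v i * n⁻¹ = f ^ i * (n * v * n⁻¹) * (f ^ i)⁻¹ := by
  have h : n * f ^ i * n⁻¹ = f ^ i := by rw [← conj_pow, hn]
  calc n * ai f v i * n⁻¹ = (n * f ^ i * n⁻¹) * (n * v * n⁻¹) * (n * f ^ i * n⁻¹)⁻¹ := by rw [ai]; group
    _ = _ := by rw [h]

/-- The subgroup generated by the conjugates of `v`. -/
theorem vec_bij : Function.Injective (vec (ai f v)) ∧ ∀ x ∈ AK C k, ∃ b, vec (ai f v) b = x := by
  let S : Subgroup G :=
    { carrier := {x | ∃ b, vec (ai f v) b = x}
      one_mem' := ⟨vzero, vec_zero _⟩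
      mul_mem' := by rintro _ _ ⟨b, rfl⟩ ⟨c, rfl⟩; exact ⟨vadd b c, (W.vmul b c).symm⟩
      inv_mem' := by rintro _ ⟨b, rfl⟩; exact ⟨b, (inv_eq_of_mul_eq_one_right (W.sqA _ (W.vecA b))).symm⟩ }
  have hle : S ≤ AK C k := by rintro _ ⟨b, rfl⟩; exact W.vecA b
  have hmod := five_fixed S W.f5 (by rintro _ ⟨b, rfl⟩; exact ⟨mF b, (W.conj_f b).symm⟩)
  have h1 : (S ⊓ Subgroup.centralizer ({f} : Set G) : Subgroup G) = ⊥ := by
    rw [eq_bot_iff]
    rintro x ⟨hx, hxf⟩
    exact Subgroup.mem_bot.2 (W.T.f_fpf x (hle hx) (Subgroup.mem_centralizer_singleton_iff.1 hxf))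
  rw [h1, Subgroup.card_bot] at hmod
  obtain ⟨i, hi, hS⟩ := (Nat.dvd_prime_pow Nat.prime_two).1
    (show Nat.card S ∣ 2 ^ 4 by
      rw [show 2 ^ 4 = Nat.card (AK C k) by rw [W.P.card_AK]; norm_num]; exact Subgroup.card_dvd_of_le hle)
  have hvS : v ∈ S := ⟨(true, false, false, false), by rw [vec_e0, ai_zero]⟩
  have hS16 : Nat.card S = 16 := by
    rw [hS] at hmod ⊢
    interval_cases i <;> first | rfl | exact absurd hmod (by decide) | skip
    rw [pow_zero] at hS
    exact absurd (Subgroup.mem_bot.1 ((Subgroup.card_eq_one.1 hS) ▸ hvS)) W.v_ne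
  let g : V → S := fun b => ⟨vec (ai f v) b, b, rfl⟩
  have hg : Function.Bijective g := by
    refine (Nat.bijective_iff_surjective_and_card g).2 ⟨?_, ?_⟩
    · rintro ⟨_, b, rfl⟩; exact ⟨b, rfl⟩
    · rw [hS16, Nat.card_eq_fintype_card]; decide
  refine ⟨fun b c h => hg.1 (Subtype.ext h), fun x hx => ?_⟩
  rw [← Subgroup.eq_of_le_of_card_ge hle (by rw [hS16, W.P.card_AK])] at hx
  exact hx

theorem σ_inv : σ⁻¹ = σ := inv_eq_of_mul_eq_one_right W.T.σ_sq

theorem conj_σ (b : V) : σ * vec (ai f v) b * σ⁻¹ = vec (ai f v) (mS b) := by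
  have key : ∀ i l, i + l = 5 → σ * ai f v i * σ⁻¹ = ai f v l := by
    intro i l h
    have hp : σ * f ^ i * σ⁻¹ = f ^ l := by
      rw [← conj_pow, W.T.σ_f, inv_pow]
      exact inv_eq_of_mul_eq_one_right (by rw [← pow_add, h, W.f5])
    calc σ * ai f v i * σ⁻¹ = (σ * f ^ i * σ⁻¹) * (σ * v * σ⁻¹) * (σ * f ^ i * σ⁻¹)⁻¹ := by rw [ai]; group
      _ = ai f v l := by rw [hp, W.σ_v, mul_inv_cancel_right, ai]
  refine conj_lin _ W.sqA W.ai_mem ?_ ?_ ?_ ?_ b
  · rw [vec_e0, ai_zero, W.σ_v, mul_inv_cancel_right]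
  · rw [key 1 4 rfl, W.a_four]
  · rw [key 2 3 rfl, vec_e3]
  · rw [key 3 2 rfl, vec_e2]

theorem conj_r_gen {c : V} (hc : r * v * r⁻¹ = vec (ai f v) c) (b : V) :
    r * vec (ai f v) b * r⁻¹ = vec (ai f v) (lin c (mF c) (mF (mF c)) (mF (mF (mF c))) b) := by
  have hrf : r * f * r⁻¹ = f := by rw [W.T.comm, mul_inv_cancel_right]
  refine conj_lin _ W.sqA W.ai_mem ?_ ?_ ?_ ?_ b
  · rw [ai_zero, hc]
  · rw [conj_ai r 1 hrf, hc, pow_one, W.conj_f]
  · rw [conj_ai r 2 hrf, hc, ← W.conj_f, ← W.conj_f]; simp [pow_succ, mul_assoc]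
  · rw [conj_ai r 3 hrf, hc, ← W.conj_f, ← W.conj_f, ← W.conj_f]; simp [pow_succ, mul_assoc]

end Tor

/-- Torus, braid and orientation. -/
structure Frame (t k v f r σ j : G) (E K C : Subgroup G) : Prop where
  W : Tor t k v f r σ j E K C
  rv : r * v * r⁻¹ = vec (ai f v) (false, false, true, true)

/-- Existence. -/
theorem exists_frame (D : Data t E K C) : ∃ k v f r σ j : G, Frame t k v f r σ j E K C := by
  classical
  obtain ⟨k, P⟩ := D.exists_klein
  obtain ⟨x0, y0, w0, s0, F5⟩ := D.exists_Five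
  obtain ⟨r, f, σ, j, T⟩ := P.exists_torus F5
  obtain ⟨v, hvA, hv1, hvσ, hvj⟩ := P.exists_braid T
  have W : Tor t k v f r σ j E K C := ⟨P, T, hvA, hv1, hvσ, hvj⟩
  obtain ⟨c, hc⟩ := W.vec_bij.2 _ (P.conj_N T.r_mem hvA)
  have hfix : mS c = c := W.vec_bij.1 (by
    rw [← W.conj_σ, hc, show σ * (r * v * r⁻¹) * σ⁻¹ = (σ * r) * v * (σ * r)⁻¹ by group, T.σ_r,
      show r * σ * v * (r * σ)⁻¹ = r * (σ * v * σ⁻¹) * r⁻¹ by group, hvσ, mul_inv_cancel_right])
  rcases fixed_pair c hfix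
    (fun e => hv1 (conj_eq_one_iff.1 (show r * v * r⁻¹ = 1 by rw [← hc, e, vec_zero])))
    (fun e => hv1 (T.r_fpf v hvA (mul_inv_eq_iff_eq_mul.1
      (show r * v * r⁻¹ = v by rw [← hc, e, vec_e0, Tor.ai_zero])).symm)) with h | h
  · exact ⟨k, v, f, r, σ, j, W, h ▸ hc.symm⟩
  · refine ⟨k, v, f, r⁻¹, σ, j, ⟨P, ⟨by rw [orderOf_inv]; exact T.r_ord, T.f_ord,
      ((show Commute r f from T.comm).inv_left).eq, Subgroup.inv_mem _ T.r_mem, T.f_mem, T.σ_mem, T.σ_sq,
      ((show Commute σ r from T.σ_r).inv_right).eq, T.σ_f, T.j_sq, ?_, T.j_f, T.σ_j, T.f_fpf, ?_, ?_⟩,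
      hvA, hv1, hvσ, hvj⟩, ?_⟩
    · rw [show j * r⁻¹ * j⁻¹ = (j * r * j⁻¹)⁻¹ by group, T.j_r]
    · intro a ha hac
      refine T.r_fpf a ha ?_
      have := ((show Commute a r⁻¹ from hac).inv_right).eq
      rwa [inv_inv] at this
    · have e : Subgroup.centralizer ({r⁻¹} : Set G) = Subgroup.centralizer ({r} : Set G) := by
        ext a
        rw [Subgroup.mem_centralizer_singleton_iff, Subgroup.mem_centralizer_singleton_iff]
        constructor
        · intro h
          have := ((show Commute a r⁻¹ from h).inv_right).eq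
          rwa [inv_inv] at this
        · intro h
          exact ((show Commute a r from h).inv_right).eq
      rw [e]; exact T.ninety
    · have h2 : r⁻¹ = r * r := inv_eq_of_mul_eq_one_right (by rw [← W.r3, pow_succ', pow_two])
      rw [show r⁻¹ * v * r⁻¹⁻¹ = r * r * v * (r * r)⁻¹ by rw [← h2],
        show r * r * v * (r * r)⁻¹ = r * (r * v * r⁻¹) * r⁻¹ by group, ← hc, W.conj_r_gen hc.symm, h]
      rfl

namespace Frame

variable (X : Frame t k v f r σ j E K C)
include X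

theorem conj_r (b : V) : r * vec (ai f v) b * r⁻¹ = vec (ai f v) (mR b) :=
  X.W.conj_r_gen X.rv b

theorem r_two (b : V) : r⁻¹ * vec (ai f v) b * r = vec (ai f v) (mR (mR b)) := by
  have h2 : r⁻¹ = r * r := inv_eq_of_mul_eq_one_right (by rw [← X.W.r3, pow_succ', pow_two])
  rw [← X.conj_r, ← X.conj_r, show r * (r * vec (ai f v) b * r⁻¹) * r⁻¹ = r * r * vec (ai f v) b * (r * r)⁻¹ by group,
    ← h2, inv_inv]

/-- The local subgroup. -/
abbrev M (_X : Frame t k v f r σ j E K C) : Subgroup G :=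
  Subgroup.normalizer (AK C k : Set G) ⊓ Subgroup.centralizer ({r} : Set G)

/-- An element of `M` with its action. -/
def Act (n : G) (L : V → V) : Prop := n ∈ X.M ∧ ∀ b, n * vec (ai f v) b * n⁻¹ = vec (ai f v) (L b)

theorem act_mul {n m : G} {L L' : V → V} (hn : X.Act n L) (hm : X.Act m L') : X.Act (n * m) (L ∘ L') := by
  refine ⟨X.M.mul_mem hn.1 hm.1, fun b => ?_⟩
  rw [show n * m * vec (ai f v) b * (n * m)⁻¹ = n * (m * vec (ai f v) b * m⁻¹) * n⁻¹ by group, hm.2, hn.2]
  rfl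

theorem act_one : X.Act 1 id := ⟨X.M.one_mem, fun b => by simp⟩

theorem act_f : X.Act f mF :=
  ⟨⟨X.W.T.f_mem, Subgroup.mem_centralizer_singleton_iff.2 X.W.T.comm.symm⟩, X.W.conj_f⟩

theorem act_r : X.Act r mR :=
  ⟨⟨X.W.T.r_mem, Subgroup.mem_centralizer_singleton_iff.2 rfl⟩, X.conj_r⟩

theorem act_σ : X.Act σ mS :=
  ⟨⟨X.W.T.σ_mem, Subgroup.mem_centralizer_singleton_iff.2 X.W.T.σ_r⟩, X.W.conj_σ⟩

/-- An element of `M` is determined by two values. -/
theorem ext_one {d : G} (hd : d ∈ X.M) (h0 : d * v * d⁻¹ = v) (h1 : d * ai f v 1 * d⁻¹ = ai f v 1) :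
    d = 1 := by
  obtain ⟨hdN, hdC⟩ := hd
  have hdr : d * r = r * d := Subgroup.mem_centralizer_singleton_iff.1 hdC
  have hr : ∀ x, d * x * d⁻¹ = x → d * (r * x * r⁻¹) * d⁻¹ = r * x * r⁻¹ := fun x hx => by
    calc d * (r * x * r⁻¹) * d⁻¹ = (d * r) * x * (d * r)⁻¹ := by group
      _ = r * (d * x * d⁻¹) * r⁻¹ := by rw [hdr]; group
      _ = _ := by rw [hx]
  have hm : ∀ x y, d * x * d⁻¹ = x → d * y * d⁻¹ = y → d * (x * y) * d⁻¹ = x * y := fun x y hx hy => by
    calc d * (x * y) * d⁻¹ = (d * x * d⁻¹) * (d * y * d⁻¹) := by group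
      _ = _ := by rw [hx, hy]
  have e2 : ai f v 2 = r * ai f v 1 * r⁻¹ * (ai f v 1 * v) := by
    have := (congrArg (vec (ai f v)) (show vadd (mR (false, true, false, false))
      (vadd (false, true, false, false) (true, false, false, false)) = (false, false, true, false) by decide)).symm
    rw [← X.W.vmul, ← X.W.vmul, ← X.conj_r, vec_e0, vec_e1, vec_e2, Tor.ai_zero] at this
    exact this
  have e3 : ai f v 3 = ai f v 2 * (r * v * r⁻¹) := by
    have := (congrArg (vec (ai f v)) (show vadd (false, false, true, false) (false, false, true, true) =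
      (false, false, false, true) by decide)).symm
    rw [← X.W.vmul, ← X.rv, vec_e2, vec_e3] at this
    exact this
  have k2 : d * ai f v 2 * d⁻¹ = ai f v 2 := e2 ▸ hm _ _ (hr _ h1) (hm _ _ h1 h0)
  have k3 : d * ai f v 3 * d⁻¹ = ai f v 3 := e3 ▸ hm _ _ k2 (hr _ h0)
  have hall : ∀ a ∈ AK C k, d * a = a * d := by
    intro a ha
    obtain ⟨b, rfl⟩ := X.W.vec_bij.2 a ha
    refine mul_inv_eq_iff_eq_mul.1 ?_
    rw [conj_lin _ X.W.sqA X.W.ai_mem (c0 := (true, false, false, false)) (c1 := (false, true, false, false))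
      (c2 := (false, false, true, false)) (c3 := (false, false, false, true))
      (by rw [vec_e0, Tor.ai_zero, h0]) (by rw [vec_e1, h1]) (by rw [vec_e2, k2]) (by rw [vec_e3, k3])]
    rw [lin_id]
  exact X.W.T.r_fpf d (X.W.P.cent_AK hall) hdr

theorem card_M : Nat.card X.M = 180 := by
  classical
  haveI : Fact (Nat.Prime 5) := ⟨by decide⟩
  have P := X.W.P
  set N := Subgroup.normalizer (AK C k : Set G) with hN
  set An := (AK C k).subgroupOf N with hAn
  haveI : An.Normal := Subgroup.normal_subgroupOf_of_le_normalizer le_rfl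
  have hMN : X.M ≤ N := inf_le_left
  have hinjM : Function.Injective ((QuotientGroup.mk' An).comp (Subgroup.inclusion hMN)) := by
    refine (injective_iff_map_eq_one _).2 fun m hm => ?_
    rw [MonoidHom.comp_apply, QuotientGroup.mk'_apply, QuotientGroup.eq_one_iff, hAn,
      Subgroup.mem_subgroupOf] at hm
    exact Subtype.ext (X.W.T.r_fpf _ hm (Subgroup.mem_centralizer_singleton_iff.1 m.2.2))
  have h180 : Nat.card X.M ∣ 180 := by
    have h := Subgroup.card_dvd_of_injective _ hinjM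
    have hQ : Nat.card (N ⧸ An) = 180 := by
      have := Subgroup.card_eq_card_quotient_mul_card_subgroup An
      rw [show Nat.card N = 2880 from P.card_N, show Nat.card An = 16 by
        rw [Nat.card_congr (Subgroup.subgroupOfEquivOfLe (Subgroup.le_normalizer (H := AK C k))).toEquiv]
        exact P.card_AK] at this
      omega
    rwa [hQ] at h
  obtain ⟨m, hm⟩ : 90 ∣ Nat.card X.M := X.W.T.ninety
  obtain ⟨m', hm'⟩ := hm ▸ h180
  have hmm : m * m' = 2 := by nlinarith
  rcases (Nat.dvd_prime Nat.prime_two).1 (⟨m', hmm.symm⟩ : m ∣ 2) with rfl | rfl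
  · exfalso
    set fM : X.M := ⟨f, X.act_f.1⟩ with hfM
    have h9 := ninety (hm.trans (mul_one 90)) (f := fM) (by rw [hfM, Subgroup.orderOf_mk]; exact X.W.T.f_ord)
    have hle : Nat.card (Subgroup.centralizer ({fM} : Set X.M)) ∣
        Nat.card (Subgroup.centralizer ({f} : Set G)) := by
      rw [← Subgroup.card_map_of_injective X.M.subtype_injective]
      refine Subgroup.card_dvd_of_le ?_
      rintro _ ⟨c, hc, rfl⟩
      exact Subgroup.mem_centralizer_singleton_iff.2
        (congrArg Subtype.val (Subgroup.mem_centralizer_singleton_iff.1 hc))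
    obtain ⟨x0, y0, w0, s0, F5⟩ := P.data.exists_Five
    rw [P.data.five_conj_cent F5 X.W.T.f_ord] at hle
    exact absurd (h9.trans hle) (by norm_num)
  · exact hm

/-- Pairs of values of `v` and `a₁`. -/
def pairs (_X : Frame t k v f r σ j E K C) : Finset (V × V) :=
  Finset.univ.filter fun p => p.1 ≠ vzero ∧ p.2 ≠ vzero ∧ p.2 ≠ p.1 ∧ p.2 ≠ mR p.1 ∧ p.2 ≠ mR (mR p.1)

omit X in
theorem card_pairs : (Finset.univ.filter fun p : V × V =>
    p.1 ≠ vzero ∧ p.2 ≠ vzero ∧ p.2 ≠ p.1 ∧ p.2 ≠ mR p.1 ∧ p.2 ≠ mR (mR p.1)).card = 180 := by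
  decide +kernel

/-- The involution commuting with `r`. -/
theorem exists_e : ∃ e, e ∈ X.M ∧ e * v * e⁻¹ = v ∧ e * ai f v 1 * e⁻¹ = v * ai f v 1 := by
  classical
  have := Fintype.ofFinite G
  have hA : ∀ n : X.M, ∀ b, ∃ c, vec (ai f v) c = (n : G) * vec (ai f v) b * (n : G)⁻¹ := fun n b =>
    X.W.vec_bij.2 _ (X.W.P.conj_N n.2.1 (X.W.vecA b))
  choose L hL using hA
  set Φ : X.M → V × V := fun n => (L n (true, false, false, false), L n (false, true, false, false)) with hΦ
  have hLr : ∀ (n : X.M) b, L n (mR b) = mR (L n b) := fun n b => X.W.vec_bij.1 (by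
    rw [hL, ← X.conj_r, ← X.conj_r, hL]
    calc (n : G) * (r * vec (ai f v) b * r⁻¹) * (n : G)⁻¹ = ((n : G) * r) * vec (ai f v) b * ((n : G) * r)⁻¹ := by group
      _ = _ := by rw [Subgroup.mem_centralizer_singleton_iff.1 n.2.2]; group)
  have hLi : ∀ (n : X.M) b c, L n b = L n c → b = c := fun n b c h => X.W.vec_bij.1
    (mul_left_cancel (mul_right_cancel (show (n : G) * vec (ai f v) b * (n : G)⁻¹ = n * vec (ai f v) c * (n : G)⁻¹ by
      rw [← hL, ← hL, h])))
  have hL0 : ∀ n : X.M, L n vzero = vzero := fun n => X.W.vec_bij.1 (by rw [hL, vec_zero, mul_one, mul_inv_cancel])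
  have hmem : ∀ n, Φ n ∈ X.pairs := by
    intro n
    refine Finset.mem_filter.2 ⟨Finset.mem_univ _, ?_, ?_, ?_, ?_, ?_⟩ <;> simp only [hΦ]
    · rw [← hL0 n]; exact fun h => absurd (hLi n _ _ h) (by decide)
    · rw [← hL0 n]; exact fun h => absurd (hLi n _ _ h) (by decide)
    · exact fun h => absurd (hLi n _ _ h) (by decide)
    · rw [← hLr]; exact fun h => absurd (hLi n _ _ h) (by decide)
    · rw [← hLr, ← hLr]; exact fun h => absurd (hLi n _ _ h) (by decide)
  have hinj : Function.Injective Φ := by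
    intro n m h
    obtain ⟨h0, h1⟩ := Prod.ext_iff.1 h
    simp only [hΦ] at h0 h1
    have key : ∀ b, L n b = L m b →
        ((m : G)⁻¹ * n) * vec (ai f v) b * ((m : G)⁻¹ * n)⁻¹ = vec (ai f v) b := fun b hb => by
      rw [show (m : G)⁻¹ * n * vec (ai f v) b * ((m : G)⁻¹ * n)⁻¹ = (m : G)⁻¹ * ((n : G) * vec (ai f v) b * (n : G)⁻¹) * m
        by group, ← hL, hb, hL]
      group
    have := X.ext_one (d := (m : G)⁻¹ * n) (X.M.mul_mem (X.M.inv_mem m.2) n.2)
      (by simpa [vec_e0, Tor.ai_zero] using key _ h0) (by simpa [vec_e1] using key _ h1)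
    exact Subtype.ext (inv_mul_eq_one.1 this).symm
  have himg : (Finset.univ : Finset X.M).image Φ = X.pairs := by
    refine Finset.eq_of_subset_of_card_le (fun p hp => ?_) ?_
    · obtain ⟨n, -, rfl⟩ := Finset.mem_image.1 hp; exact hmem n
    · rw [Finset.card_image_of_injective _ hinj, Finset.card_univ, ← Nat.card_eq_fintype_card, X.card_M,
        pairs, card_pairs]
  have htgt : ((true, false, false, false), (true, true, false, false)) ∈ X.pairs :=
    Finset.mem_filter.2 ⟨Finset.mem_univ _, by decide⟩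
  rw [← himg] at htgt
  obtain ⟨n, -, hn⟩ := Finset.mem_image.1 htgt
  obtain ⟨h0, h1⟩ := Prod.ext_iff.1 hn
  simp only [hΦ] at h0 h1
  refine ⟨n, n.2, ?_, ?_⟩
  · have := hL n (true, false, false, false)
    rw [h0, vec_e0, Tor.ai_zero] at this
    exact this.symm
  · have := hL n (false, true, false, false)
    rw [h1, vec_e1] at this
    rw [← this]
    simp [vec, sel, Tor.ai_zero]

end Frame

/-- The six generators. -/
structure Gens (t k v f r σ j e : G) (E K C : Subgroup G) : Prop where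
  X : Frame t k v f r σ j E K C
  e_mem : e ∈ X.M
  e_v : e * v * e⁻¹ = v
  e_a : e * ai f v 1 * e⁻¹ = v * ai f v 1

theorem exists_gens (D : Data t E K C) : ∃ k v f r σ j e : G, Gens t k v f r σ j e E K C := by
  obtain ⟨k, v, f, r, σ, j, X⟩ := exists_frame D
  obtain ⟨e, h1, h2, h3⟩ := X.exists_e
  exact ⟨k, v, f, r, σ, j, e, X, h1, h2, h3⟩

namespace Gens

variable (S : Gens t k v f r σ j e E K C)
include S

theorem act_e : S.X.Act e mE := by
  have hr : ∀ x y, e * x * e⁻¹ = y → e * (r * x * r⁻¹) * e⁻¹ = r * y * r⁻¹ := fun x y hx => by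
    calc e * (r * x * r⁻¹) * e⁻¹ = (e * r) * x * (e * r)⁻¹ := by group
      _ = r * (e * x * e⁻¹) * r⁻¹ := by rw [Subgroup.mem_centralizer_singleton_iff.1 S.e_mem.2]; group
      _ = _ := by rw [hx]
  have h0 : e * vec (ai f v) (true, false, false, false) * e⁻¹ = vec (ai f v) (true, false, false, false) := by
    rw [vec_e0, Tor.ai_zero, S.e_v]
  have h1 : e * vec (ai f v) (false, true, false, false) * e⁻¹ = vec (ai f v) (true, true, false, false) := by
    rw [vec_e1, S.e_a]; simp [vec, sel, Tor.ai_zero]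
  have hm : ∀ {b b' c c' : V}, e * vec (ai f v) b * e⁻¹ = vec (ai f v) b' →
      e * vec (ai f v) c * e⁻¹ = vec (ai f v) c' →
      e * vec (ai f v) (vadd b c) * e⁻¹ = vec (ai f v) (vadd b' c') := fun {b b' c c'} hb hc => by
    rw [← S.X.W.vmul, ← S.X.W.vmul, ← hb, ← hc]; group
  have hR : ∀ {b b' : V}, e * vec (ai f v) b * e⁻¹ = vec (ai f v) b' →
      e * vec (ai f v) (mR b) * e⁻¹ = vec (ai f v) (mR b') := fun {b b'} hb => by
    rw [← S.X.conj_r, ← S.X.conj_r]; exact hr _ _ hb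
  have h2 := hm (hR h1) (hm h1 h0)
  have h3 := hm h2 (hR h0)
  refine ⟨S.e_mem, conj_lin _ S.X.W.sqA S.X.W.ai_mem ?_ ?_ ?_ ?_⟩
  · rw [← vec_e0 (ai f v)]; exact h0
  · rw [← vec_e1 (ai f v)]; exact h1
  · rw [← vec_e2 (ai f v)]; exact h2
  · rw [← vec_e3 (ai f v)]; exact h3

theorem e_sq : e * e = 1 := by
  have h := S.X.act_mul S.act_e S.act_e
  refine S.X.ext_one h.1 ?_ ?_
  · have := h.2 (true, false, false, false)
    rw [vec_e0, Tor.ai_zero] at this
    rw [this]; simp [vec, sel, mE, lin, vsel, vadd, vzero, Tor.ai_zero]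
  · have := h.2 (false, true, false, false)
    rw [vec_e1] at this
    rw [this]; simp [vec, sel, mE, lin, vsel, vadd, vzero]

theorem act_letter {g : ℕ} (hg : g ∈ ([1, 2, 3, 4, 5, 7] : List ℕ)) :
    S.X.Act (gen v f r σ j e g) (mLet g) := by
  have X := S.X
  have hfi : f⁻¹ = f * (f * (f * f)) := inv_eq_of_mul_eq_one_right (by
    rw [← X.W.f5]; simp only [pow_succ, pow_zero, one_mul, mul_assoc])
  have hri : r⁻¹ = r * r := inv_eq_of_mul_eq_one_right (by
    rw [← X.W.r3]; simp only [pow_succ, pow_zero, one_mul, mul_assoc])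
  simp only [List.mem_cons, List.not_mem_nil, or_false] at hg
  rcases hg with rfl | rfl | rfl | rfl | rfl | rfl
  · exact X.act_f
  · show X.Act f⁻¹ _
    rw [hfi]
    have := X.act_mul X.act_f (X.act_mul X.act_f (X.act_mul X.act_f X.act_f))
    exact this
  · exact X.act_r
  · show X.Act r⁻¹ _
    rw [hri]
    have := X.act_mul X.act_r X.act_r
    exact this
  · exact X.act_σ
  · exact S.act_e

theorem act_word {w : List ℕ} (hw : ∀ g ∈ w, g ∈ ([1, 2, 3, 4, 5, 7] : List ℕ)) :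
    S.X.Act (prodW (gen v f r σ j e) w) (mWord w) := by
  induction w with
  | nil => exact S.X.act_one
  | cons g w ih =>
    rw [prodW_cons]
    exact S.X.act_mul (S.act_letter (hw g List.mem_cons_self)) (ih fun a ha => hw a (List.mem_cons_of_mem _ ha))

/-- A word in the letters of the local subgroup acting trivially is trivial. -/
theorem rel_local {w : List ℕ}
    (h : (w.all fun g => [1, 2, 3, 4, 5, 7].contains g) = true ∧
      mWord w (true, false, false, false) = (true, false, false, false) ∧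
      mWord w (false, true, false, false) = (false, true, false, false)) :
    prodW (gen v f r σ j e) w = 1 := by
  obtain ⟨hw, h0, h1⟩ := h
  have H := S.act_word (w := w) fun g hg => List.contains_iff_mem.1 (List.all_eq_true.1 hw g hg)
  refine S.X.ext_one H.1 ?_ ?_
  · have := H.2 (true, false, false, false)
    rwa [h0, vec_e0, Tor.ai_zero] at this
  · have := H.2 (false, true, false, false)
    rwa [h1, vec_e1] at this

end Gens

end CfsgLib.J3Uniq
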