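import Cfsg.Agent.Lib.J3Uniq.Rels
import Cfsg.Agent.Lib.Classical.Card

/-!
Relators in the letters of the normaliser, and the two subgroups used to bound the generated subgroup.
-/

set_option autoImplicit false
set_option maxHeartbeats 800000

namespace CfsgLib.J3Uniq

open CfsgLib.J3Type CfsgLib.CosetEnum

/-- Translation part and linear part of a word. -/
def affWord : List ℕ → V × (V → V)
  | [] => (vzero, id)
  | g :: w => if g = 0 then (vadd (true, false, false, false) (affWord w).1, (affWord w).2)
      else (mLet g (affWord w).1, mLet g ∘ (affWord w).2)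

variable {G : Type*} [Group G] [Finite G] {t k v f r σ j e : G} {E K C : Subgroup G}

/-- The subgroup of the first five generators. -/
def subH (v f r σ j : G) : Subgroup G := Subgroup.closure {v, f, r, σ, j}

namespace Gens

variable (S : Gens t k v f r σ j e E K C)
include S

theorem aff_word : ∀ {w : List ℕ}, (∀ g ∈ w, g ∈ ([0, 1, 2, 3, 4, 5, 7] : List ℕ)) →
    ∃ n, S.X.Act n (affWord w).2 ∧ prodW (gen v f r σ j e) w = vec (ai f v) (affWord w).1 * n
  | [], _ => ⟨1, S.X.act_one, by simp [affWord]⟩
  | g :: w, hw => by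
    obtain ⟨n, hn, he⟩ := aff_word (w := w) fun a ha => hw a (List.mem_cons_of_mem _ ha)
    by_cases h0 : g = 0
    · subst h0
      refine ⟨n, by simpa [affWord] using hn, ?_⟩
      have : (affWord (0 :: w)).1 = vadd (true, false, false, false) (affWord w).1 := by simp [affWord]
      rw [prodW_cons, he, this, ← S.X.W.vmul, vec_e0, Tor.ai_zero]
      exact (mul_assoc _ _ _).symm
    · have hg : g ∈ ([1, 2, 3, 4, 5, 7] : List ℕ) := by
        have := hw g List.mem_cons_self
        simp only [List.mem_cons, List.not_mem_nil, or_false] at this ⊢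
        exact this.resolve_left h0
      have ha := S.act_letter hg
      refine ⟨gen v f r σ j e g * n, by simpa [affWord, h0] using S.X.act_mul ha hn, ?_⟩
      have : (affWord (g :: w)).1 = mLet g (affWord w).1 := by simp [affWord, h0]
      rw [prodW_cons, he, this, ← ha.2]
      group

/-- A relator without the braiding letter. -/
theorem rel_aff {w : List ℕ}
    (h : (w.all fun g => [0, 1, 2, 3, 4, 5, 7].contains g) = true ∧ (affWord w).1 = vzero ∧
      (affWord w).2 (true, false, false, false) = (true, false, false, false) ∧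
      (affWord w).2 (false, true, false, false) = (false, true, false, false)) :
    prodW (gen v f r σ j e) w = 1 := by
  obtain ⟨hw, hz, h0, h1⟩ := h
  obtain ⟨n, hn, he⟩ := S.aff_word (w := w) fun g hg => List.contains_iff_mem.1 (List.all_eq_true.1 hw g hg)
  rw [he, hz, vec_zero, one_mul]
  refine S.X.ext_one hn.1 ?_ ?_
  · have := hn.2 (true, false, false, false)
    rwa [h0, vec_e0, Tor.ai_zero] at this
  · have := hn.2 (false, true, false, false)
    rwa [h1, vec_e1] at this

theorem AK_le_subH : AK C k ≤ subH v f r σ j := by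
  intro a ha
  obtain ⟨b, rfl⟩ := S.X.W.vec_bij.2 a ha
  have hv : v ∈ subH v f r σ j := Subgroup.subset_closure (by simp)
  have hf : f ∈ subH v f r σ j := Subgroup.subset_closure (by simp)
  have hai : ∀ i, ai f v i ∈ subH v f r σ j := fun i =>
    (subH v f r σ j).mul_mem ((subH v f r σ j).mul_mem (Subgroup.pow_mem _ hf i) hv)
      (Subgroup.inv_mem _ (Subgroup.pow_mem _ hf i))
  exact vec_mem _ hai b

/-- A subgroup `SL₂(16):2` containing the first five generators. -/
theorem exists_H : ∃ H : Subgroup G, subH v f r σ j = H ∧ Nat.card H = 8160 := by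
  obtain ⟨H, N, F, _, _, ⟨h1, h2, h3, h4, h5⟩, hgen, -, hidx, hF, ⟨iso⟩⟩ :=
    S.X.W.P.exists_sl16_at S.X.W.T S.X.W.v_mem S.X.W.v_ne S.X.W.σ_v S.X.W.braid
  refine ⟨H, le_antisymm ((Subgroup.closure_le _).2 ?_) (hgen _ S.AK_le_subH (Subgroup.subset_closure (by simp))
    (Subgroup.subset_closure (by simp)) (Subgroup.subset_closure (by simp)) (Subgroup.subset_closure (by simp))), ?_⟩
  · intro a ha
    simp only [Set.mem_insert_iff, Set.mem_singleton_iff] at ha
    rcases ha with rfl | rfl | rfl | rfl | rfl
    exacts [h1, h2, h3, h4, h5]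
  · rw [← N.card_mul_index, hidx, Nat.card_congr iso.toEquiv, CfsgLib.Classical.card_SL_two, hF]
    norm_num

/-- A subgroup with `e` and the first five generators has order divisible by 64. -/
theorem sixtyfour {U : Subgroup G} (hU : subH v f r σ j ≤ U) (he : e ∈ U) : 64 ∣ Nat.card U := by
  classical
  set A := AK C k
  set N := Subgroup.normalizer (A : Set G)
  have hσU : σ ∈ U := hU (Subgroup.subset_closure (by simp))
  have hee : ∀ y, e * (e * y) = y := fun y => by rw [← mul_assoc, S.e_sq, one_mul]
  have hσσ : ∀ y, σ * (σ * y) = y := fun y => by rw [← mul_assoc, S.X.W.T.σ_sq, one_mul]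
  have hσe : ∀ y, σ * (e * y) = e * (σ * y) := fun y => by rw [← mul_assoc, ← S.e_σ, mul_assoc]
  let W : Subgroup G :=
    { carrier := {1, e, σ, e * σ}
      one_mem' := by simp
      mul_mem' := by
        intro a b ha hb
        simp only [Set.mem_insert_iff, Set.mem_singleton_iff] at ha hb ⊢
        rcases ha with rfl | rfl | rfl | rfl <;> rcases hb with rfl | rfl | rfl | rfl <;>
          simp [S.e_sq, S.X.W.T.σ_sq, ← S.e_σ, mul_assoc, hee, hσσ, hσe]
      inv_mem' := by
        intro a ha
        simp only [Set.mem_insert_iff, Set.mem_singleton_iff] at ha ⊢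
        rcases ha with rfl | rfl | rfl | rfl <;> simp [S.e_inv, S.X.W.σ_inv, S.e_σ] }
  have hes : e * σ ≠ 1 := fun h => S.e_ne.2 (by rw [eq_inv_of_mul_eq_one_left h, S.X.W.σ_inv])
  have hWc : Nat.card W = 4 := by
    rw [show Nat.card W = ({1, e, σ, e * σ} : Set G).ncard from Nat.card_coe_set_eq _,
      Set.ncard_insert_of_notMem (by simp [S.e_ne.1.symm, S.σ_ne.symm, hes.symm]) (Set.toFinite _),
      Set.ncard_insert_of_notMem (by simp [S.e_ne.2, S.σ_ne]) (Set.toFinite _),
      Set.ncard_pair (fun h => S.e_ne.1 (right_eq_mul.1 h))]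
  have hWM : W ≤ S.X.M := by
    intro a ha
    change a ∈ ({1, e, σ, e * σ} : Set G) at ha
    simp only [Set.mem_insert_iff, Set.mem_singleton_iff] at ha
    rcases ha with rfl | rfl | rfl | rfl
    exacts [S.X.M.one_mem, S.e_mem, S.X.act_σ.1, S.X.M.mul_mem S.e_mem S.X.act_σ.1]
  have hWU : W ≤ U := by
    intro a ha
    change a ∈ ({1, e, σ, e * σ} : Set G) at ha
    simp only [Set.mem_insert_iff, Set.mem_singleton_iff] at ha
    rcases ha with rfl | rfl | rfl | rfl
    exacts [U.one_mem, he, hσU, U.mul_mem he hσU]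
  set Nn := N ⊓ U
  set An := A.subgroupOf Nn
  haveI : An.Normal := Subgroup.normal_subgroupOf_of_le_normalizer inf_le_left
  have hWN : W ≤ Nn := le_inf (hWM.trans inf_le_left) hWU
  have hinj : Function.Injective ((QuotientGroup.mk' An).comp (Subgroup.inclusion hWN)) := by
    refine (injective_iff_map_eq_one _).2 fun m hm => ?_
    rw [MonoidHom.comp_apply, QuotientGroup.mk'_apply, QuotientGroup.eq_one_iff, Subgroup.mem_subgroupOf] at hm
    exact Subtype.ext (S.X.W.T.r_fpf _ hm (Subgroup.mem_centralizer_singleton_iff.1 (hWM m.2).2))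
  have h4 := Subgroup.card_dvd_of_injective _ hinj
  rw [hWc] at h4
  have hA : Nat.card An = 16 := by
    rw [Nat.card_congr (Subgroup.subgroupOfEquivOfLe
      (le_inf (Subgroup.le_normalizer (H := A)) (S.AK_le_subH.trans hU))).toEquiv, S.X.W.P.card_AK]
  have := Subgroup.card_eq_card_quotient_mul_card_subgroup An
  rw [hA] at this
  exact (show 64 ∣ Nat.card Nn by obtain ⟨c, hc⟩ := h4; exact ⟨c, by omega⟩).trans
    (Subgroup.card_dvd_of_le inf_le_right)

theorem e_not_mem : e ∉ subH v f r σ j := by
  intro he
  obtain ⟨H, hH, hc⟩ := S.exists_H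
  have := S.sixtyfour hH.le (hH.le he)
  rw [hc] at this
  norm_num at this

end Gens

end CfsgLib.J3Uniq
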