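import Cfsg.Agent.Lib.J3Uniq.Relators
import Cfsg.Agent.Lib.J3Uniq.CheckM
import Cfsg.Agent.Lib.J3Uniq.CheckA
import Cfsg.Agent.Lib.J3Uniq.CheckB
import Cfsg.Agent.Lib.J3Uniq.CheckW
import Cfsg.Agent.Lib.J3Type.Seventeen

/-!
The six generators satisfy the relators and generate a simple group of J₃ type.
-/

set_option autoImplicit false
set_option maxHeartbeats 800000
set_option synthInstance.maxSize 512

namespace CfsgLib.J3Uniq

open CfsgLib.J3Type CfsgLib.CosetEnum

/-- The inverse letters. -/
def invs8 : List ℕ := [0, 2, 1, 4, 3, 5, 6, 7]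

/-- The word used for the prime 19. -/
def w19 : List ℕ := [7, 0, 6, 0, 2, 4]

theorem certM_info : certM.K = 8 ∧ certM.invs = invs8 ∧ certM.rels = relsAt w29 ∧
    certM.subs = [[0], [1], [3], [5], [6]] := by decide +kernel

theorem certA_info : certA.K = 8 ∧ certA.invs = invs8 ∧ certA.rels = relsAt (w29 ++ [3]) ∧
    certA.subs = [[0], [1], [3], [5], [6]] ∧ certA.N = 1 := by decide +kernel

theorem certB_info : certB.K = 8 ∧ certB.invs = invs8 ∧ certB.rels = relsAt (w29 ++ [3, 3]) ∧
    certB.subs = [[0], [1], [3], [5], [6]] ∧ certB.N = 1 := by decide +kernel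

theorem certW_info : certW.K = 8 ∧ certW.invs = invs8 ∧ certW.rels = relsAt w29 ∧
    certW.subs = [[0], [1], [3], [5], [6], w19 ++ w19 ++ w19] ∧ certW.N = 1 := by decide +kernel

theorem trace19 : Nat.beq (certM.run 0 (List.replicate 57 w19).flatten) 0 = true := by decide +kernel

theorem prodW_replicate {G : Type*} [Group G] (gen : ℕ → G) (w : List ℕ) :
    ∀ n, prodW gen (List.replicate n w).flatten = prodW gen w ^ n
  | 0 => by simp
  | n + 1 => by rw [List.replicate_succ, List.flatten_cons, prodW_append, prodW_replicate gen w n, pow_succ']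

theorem model_of {G : Type*} [Group G] [Finite G] {t k v f r σ j e : G} {E K C : Subgroup G}
    (S : Gens t k v f r σ j e E K C) (cert : Cert) (hK : cert.K = 8) (hi : cert.invs = invs8)
    (hrel : ∀ x ∈ cert.rels, prodW (gen v f r σ j e) x = 1) {H : Subgroup G}
    (hsub : ∀ w ∈ cert.subs, prodW (gen v f r σ j e) w ∈ H) : Model cert H (gen v f r σ j e) where
  gen_K := by rw [hK]; rfl
  inv_mul n := by
    rw [show cert.inv n = invs8.getD n n by simp [Cert.inv, hi]]
    by_cases h : n < 8
    · interval_cases n <;>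
        simp [gen, invs8, S.e_sq, S.X.W.T.σ_sq, S.X.W.T.j_sq, S.X.W.sqA v S.X.W.v_mem]
    · obtain ⟨m, rfl⟩ : ∃ m, n = m + 8 := ⟨n - 8, by omega⟩
      rw [List.getD_eq_default _ _ (by simp [invs8])]
      exact one_mul 1
  rel := hrel
  sub := hsub

variable {G : Type*} [Group G] [Finite G] {t k v f r σ j e : G} {E K C : Subgroup G}

/-- The subgroup of all six generators. -/
def subM (v f r σ j e : G) : Subgroup G := Subgroup.closure {y | ∃ g < 8, gen v f r σ j e g = y}

omit [Finite G] in
theorem gen_mem_subM {n : ℕ} (h : n < 8) : gen v f r σ j e n ∈ subM v f r σ j e :=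
  Subgroup.subset_closure ⟨n, h, rfl⟩

omit [Finite G] in
theorem subH_sub {w : List ℕ} (hw : w ∈ ([[0], [1], [3], [5], [6]] : List (List ℕ))) :
    prodW (gen v f r σ j e) w ∈ subH v f r σ j := by
  simp only [List.mem_cons, List.not_mem_nil, or_false] at hw
  rcases hw with rfl | rfl | rfl | rfl | rfl <;>
    exact Subgroup.subset_closure (by simp [gen])

namespace Gens

variable (S : Gens t k v f r σ j e E K C)
include S

theorem collapse {cert : Cert} (c : cert.Complete) {H : Subgroup G} (m : Model cert H (gen v f r σ j e))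
    (hK : cert.K = 8) (hN : cert.N = 1) : e ∈ H := by
  obtain ⟨i, hi, h⟩ := exists_coset c m (x := e) (Subgroup.subset_closure ⟨7, by rw [hK]; norm_num, rfl⟩)
  obtain rfl : i = 0 := by omega
  rwa [coreRep, c.nd_zero, psi_zero, inv_one, mul_one] at h

/-- The relation of `C(r)` holds. -/
theorem w29_eq : prodW (gen v f r σ j e) w29 = 1 := by
  obtain ⟨i, hi, he⟩ := S.efd_five
  have hw : prodW (gen v f r σ j e) w29 = r ^ i := by
    rw [← he, show w29 = (List.replicate 5 [7, 1, 6, 7, 6]).flatten from rfl, prodW_replicate]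
    simp [gen, mul_assoc]
  interval_cases i
  · rw [hw, pow_zero]
  · exfalso
    obtain ⟨hK, hi', hr, hs, hN⟩ := certB_info
    refine S.e_not_mem (S.collapse certB_complete (model_of S certB hK hi' ?_ fun w hw => subH_sub (hs ▸ hw)) hK hN)
    rw [hr]
    refine S.rels_ok _ ?_
    rw [prodW_append, hw]
    simpa [gen, pow_succ, mul_assoc] using S.X.W.r3
  · exfalso
    obtain ⟨hK, hi', hr, hs, hN⟩ := certA_info
    refine S.e_not_mem (S.collapse certA_complete (model_of S certA hK hi' ?_ fun w hw => subH_sub (hs ▸ hw)) hK hN)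
    rw [hr]
    refine S.rels_ok _ ?_
    rw [prodW_append, hw]
    simpa [gen, pow_succ, mul_assoc] using S.X.W.r3

theorem modelM : Model certM (subH v f r σ j) (gen v f r σ j e) :=
  model_of S certM certM_info.1 certM_info.2.1 (certM_info.2.2.1 ▸ S.rels_ok _ S.w29_eq)
    fun _ hw => subH_sub (certM_info.2.2.2 ▸ hw)

theorem subH_le : subH v f r σ j ≤ subM v f r σ j e := by
  rw [subH, Subgroup.closure_le]
  intro a ha
  simp only [Set.mem_insert_iff, Set.mem_singleton_iff] at ha
  rcases ha with rfl | rfl | rfl | rfl | rfl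
  exacts [gen_mem_subM (n := 0) (by norm_num), gen_mem_subM (n := 1) (by norm_num),
    gen_mem_subM (n := 3) (by norm_num), gen_mem_subM (n := 5) (by norm_num), gen_mem_subM (n := 6) (by norm_num)]

theorem nineteen_dvd : 19 ∣ Nat.card (subM v f r σ j e) := by
  by_contra h19
  set u := prodW (gen v f r σ j e) w19 with hu
  have hlt : ∀ g ∈ w19, g < 8 := by decide
  have huM : u ∈ subM v f r σ j e := by
    refine Subgroup.list_prod_mem _ fun y hy => ?_
    obtain ⟨a, ha, rfl⟩ := List.mem_map.1 hy
    exact gen_mem_subM (hlt a ha)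
  have h57 : u ^ 57 ∈ subH v f r σ j := by
    rw [hu, ← prodW_replicate]
    refine mem_of_run_eq_zero certM_complete S.modelM (fun g hg => ?_) (Nat.eq_of_beq_eq_true trace19)
    rw [certM_info.1]
    obtain ⟨l, hl, hgl⟩ := List.mem_flatten.1 hg
    exact hlt g (List.eq_of_mem_replicate hl ▸ hgl)
  have h3 : u ^ 3 ∈ subH v f r σ j := by
    have hco : Nat.Coprime 19 (orderOf (u ^ 3)) :=
      ((Nat.Prime.coprime_iff_not_dvd (by norm_num)).2 h19).coprime_dvd_right
        (Subgroup.orderOf_dvd_natCard _ (Subgroup.pow_mem _ huM 3))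
    obtain ⟨m, hm⟩ := exists_pow_eq_self_of_coprime hco
    rw [← hm, ← pow_mul u 3 19]
    exact Subgroup.pow_mem _ h57 m
  obtain ⟨hK, hi, hr, hs, hN⟩ := certW_info
  refine S.e_not_mem (S.collapse certW_complete (model_of S certW hK hi (hr ▸ S.rels_ok _ S.w29_eq) ?_) hK hN)
  intro w hw
  rw [hs] at hw
  rcases List.mem_append.1 (show w ∈ [[0], [1], [3], [5], [6]] ++ [w19 ++ w19 ++ w19] from hw) with h | h
  · exact subH_sub h
  · rw [List.mem_singleton] at h
    rw [h, prodW_append, prodW_append, ← hu]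
    simpa [pow_succ] using h3

theorem subM_dvd : 310080 ∣ Nat.card (subM v f r σ j e) := by
  obtain ⟨H, hH, hc⟩ := S.exists_H
  subst hH
  have h64 := S.sixtyfour S.subH_le (gen_mem_subM (n := 7) (by norm_num) : e ∈ _)
  -- odd part from the subgroup `SL₂(16):2`
  have h255 : 255 ∣ Nat.card (subH v f r σ j) := hc ▸ ⟨32, by norm_num⟩
  exact Nat.Coprime.mul_dvd_of_dvd_of_dvd (m := 16320) (n := 19) (by norm_num)
    (Nat.Coprime.mul_dvd_of_dvd_of_dvd (m := 64) (n := 255) (by norm_num) h64
      (h255.trans (Subgroup.card_dvd_of_le S.subH_le))) S.nineteen_dvd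

end Gens

end CfsgLib.J3Uniq
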