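import Cfsg.Agent.Lib.J3Uniq.Local

/-!
The relators.
-/

set_option autoImplicit false

namespace CfsgLib.J3Uniq

open CfsgLib.J3Type CfsgLib.CosetEnum

/-- The relators; the argument is the relation of `C(r)`. -/
def relsAt (w : List ℕ) : List (List ℕ) :=
  [[0, 0],
   [5, 5],
   [6, 6],
   [7, 7],
   [1, 2],
   [3, 4],
   [1, 1, 1, 1, 1],
   [3, 3, 3],
   [3, 1, 4, 2],
   [5, 3, 5, 4],
   [5, 1, 5, 1],
   [6, 1, 6, 1],
   [6, 3, 6, 3],
   [5, 6, 5, 6],
   [5, 0, 5, 0],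
   [0, 6, 0, 6, 0, 6],
   [0, 1, 0, 2, 0, 1, 0, 2],
   [0, 1, 1, 0, 2, 2, 0, 1, 1, 0, 2, 2],
   [0, 1, 0, 2, 1, 1, 0, 2, 2, 2, 2, 0, 1, 1, 2, 0, 1],
   [3, 0, 4, 2, 2, 0, 1, 1, 1, 1, 0, 2, 2],
   [7, 3, 7, 4],
   [7, 5, 7, 5],
   [7, 1, 7, 1, 7, 1, 7, 1, 7, 1],
   [7, 1, 1, 7, 1, 1, 7, 1, 1],
   [7, 0, 7, 0],
   [7, 1, 0, 2, 7, 1, 0, 2, 0],
   [7, 1, 1, 0, 2, 2, 7, 2, 2, 0, 1, 1, 0],
   [7, 2, 2, 0, 1, 1, 7, 1, 1, 0, 2, 2, 0],
   [5, 7, 2, 7, 1, 7, 2],
   w,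
   [3, 0, 3, 0, 3, 0],
   [5, 7, 6, 7, 6, 7, 6, 7, 6]]

/-- The relation of `C(r)`. -/
def w29 : List ℕ := [7, 1, 6, 7, 6, 7, 1, 6, 7, 6, 7, 1, 6, 7, 6, 7, 1, 6, 7, 6, 7, 1, 6, 7, 6]

variable {G : Type*} [Group G] [Finite G] {t k v f r σ j e : G} {E K C : Subgroup G}

omit [Finite G] in
theorem sq_of_inverts {a b : G} (ha : a * a = 1) (h : a * b * a⁻¹ = b⁻¹) : a * b * (a * b) = 1 := by
  rw [inv_eq_of_mul_eq_one_right ha] at h
  calc a * b * (a * b) = (a * b * a) * b := by group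
    _ = 1 := by rw [h, inv_mul_cancel]

namespace Gens

variable (S : Gens t k v f r σ j e E K C)
include S

theorem rels_ok (w : List ℕ) (hw : prodW (gen v f r σ j e) w = 1) :
    ∀ x ∈ relsAt w, prodW (gen v f r σ j e) x = 1 := by
  have W := S.X.W
  have hej := S.ej_four
  have hσj : σ * j * (σ * j) = 1 := by
    calc σ * j * (σ * j) = σ * (j * σ) * j := by group
      _ = σ * σ * (j * j) := by rw [← W.T.σ_j]; group
      _ = 1 := by rw [W.T.σ_sq, W.T.j_sq, mul_one]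
  have hjf := sq_of_inverts W.T.j_sq W.T.j_f
  have hjr := sq_of_inverts W.T.j_sq W.T.j_r
  intro x hx
  simp only [relsAt, List.mem_cons, List.not_mem_nil, or_false] at hx
  rcases hx with rfl | rfl | rfl | rfl | rfl | rfl | rfl | rfl | rfl | rfl | rfl | rfl | rfl | rfl | rfl | rfl | rfl | rfl | rfl | rfl | rfl | rfl | rfl | rfl | rfl | rfl | rfl | rfl | rfl | rfl | rfl | rfl
  · exact S.rel_aff (by decide)
  · exact S.rel_aff (by decide)
  · simpa [gen] using W.T.j_sq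
  · exact S.rel_aff (by decide)
  · exact S.rel_aff (by decide)
  · exact S.rel_aff (by decide)
  · exact S.rel_aff (by decide)
  · exact S.rel_aff (by decide)
  · exact S.rel_aff (by decide)
  · exact S.rel_aff (by decide)
  · exact S.rel_aff (by decide)
  · simpa [gen, mul_assoc] using hjf
  · simpa [gen, mul_assoc] using hjr
  · simpa [gen, mul_assoc] using hσj
  · exact S.rel_aff (by decide)
  · simpa [gen, pow_succ, mul_assoc] using W.braid
  · exact S.rel_aff (by decide)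
  · exact S.rel_aff (by decide)
  · exact S.rel_aff (by decide)
  · exact S.rel_aff (by decide)
  · exact S.rel_aff (by decide)
  · exact S.rel_aff (by decide)
  · exact S.rel_aff (by decide)
  · exact S.rel_aff (by decide)
  · exact S.rel_aff (by decide)
  · exact S.rel_aff (by decide)
  · exact S.rel_aff (by decide)
  · exact S.rel_aff (by decide)
  · exact S.rel_aff (by decide)
  · exact hw
  · exact S.rel_aff (by decide)
  · have h : σ * (e * j) ^ 4 = 1 := by rw [hej, W.T.σ_sq]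
    simpa [gen, pow_succ, mul_assoc] using h

end Gens

end CfsgLib.J3Uniq
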