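import Cfsg.Agent.Lib.J3Uniq.Gens
import Cfsg.Agent.Lib.J3Uniq.Alt
import Cfsg.Agent.Lib.J3Type.Three

/-!
The relations between the six generators that involve the braiding involution.
-/

set_option autoImplicit false
set_option maxHeartbeats 800000

namespace CfsgLib.J3Uniq

open CfsgLib.J3Type CfsgLib.CosetEnum CfsgLib.J2Order

variable {G : Type*} [Group G] [Finite G] {t k v f r σ j e : G} {E K C : Subgroup G}

namespace Gens

variable (S : Gens t k v f r σ j e E K C)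
include S

theorem local_pow {a : G} {w : List ℕ} {n : ℕ} (hw : prodW (gen v f r σ j e) w = a)
    (h : (((List.replicate n w).flatten).all fun g => [1, 2, 3, 4, 5, 7].contains g) = true ∧
      mWord (List.replicate n w).flatten (true, false, false, false) = (true, false, false, false) ∧
      mWord (List.replicate n w).flatten (false, true, false, false) = (false, true, false, false)) :
    a ^ n = 1 := by
  rw [← hw, ← S.rel_local h]
  clear h
  induction n with
  | zero => simp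
  | succ n ih => rw [List.replicate_succ, List.flatten_cons, prodW_append, pow_succ', ih]

theorem e_σ : e * σ = σ * e := by
  have h := S.local_pow (a := e * σ) (w := [7, 5]) (n := 2) (by simp [gen]) (by decide)
  rw [pow_two] at h
  rw [eq_inv_of_mul_eq_one_left h, mul_inv_rev, S.X.W.σ_inv, inv_eq_of_mul_eq_one_right S.e_sq]

theorem e_r : e * r = r * e := Subgroup.mem_centralizer_singleton_iff.1 S.e_mem.2

theorem e_ne : e ≠ 1 ∧ e ≠ σ := by
  have h := S.act_e.2 (false, true, false, false)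
  constructor
  · intro h1
    rw [h1, one_mul, inv_one, mul_one] at h
    exact absurd (S.X.W.vec_bij.1 h) (by decide)
  · intro h1
    rw [h1, S.X.act_σ.2] at h
    exact absurd (S.X.W.vec_bij.1 h) (by decide)

theorem σ_ne : σ ≠ 1 := by
  intro h1
  have h := S.X.act_σ.2 (false, true, false, false)
  rw [h1, one_mul, inv_one, mul_one] at h
  exact absurd (S.X.W.vec_bij.1 h) (by decide)

theorem j_inv : j⁻¹ = j := inv_eq_of_mul_eq_one_right S.X.W.T.j_sq

theorem e_inv : e⁻¹ = e := inv_eq_of_mul_eq_one_right S.e_sq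

theorem jej_r : j * e * j * r = r * (j * e * j) := by
  have h1 : j * r = r⁻¹ * j := mul_inv_eq_iff_eq_mul.1 S.X.W.T.j_r
  have h2 : j * r⁻¹ = r * j := by
    refine mul_inv_eq_iff_eq_mul.1 ?_
    rw [show j * r⁻¹ * j⁻¹ = (j * r * j⁻¹)⁻¹ by group, S.X.W.T.j_r, inv_inv]
  calc j * e * j * r = j * e * (j * r) := by group
    _ = j * (e * r⁻¹) * j := by rw [h1]; group
    _ = j * (r⁻¹ * e) * j := by rw [(show Commute e r from S.e_r).inv_right.eq]
    _ = (j * r⁻¹) * e * j := by group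
    _ = r * (j * e * j) := by rw [h2]; group

theorem exists_transport : ∃ h x : G, Three t x E K C ∧ h * σ * h⁻¹ = t ∧ h * r * h⁻¹ = x := by
  have D := S.X.W.P.data
  obtain ⟨x, T⟩ := D.exists_three
  obtain ⟨g, hg⟩ := D.exists_to_t S.X.W.T.σ_sq S.σ_ne
  have hy : g * r * g⁻¹ ∈ C := D.memC.2 (by rw [← hg]; exact conj_comm S.X.W.T.σ_r.symm)
  obtain ⟨c, hc, hcx⟩ := T.three_conj hy
    ((orderOf_injective (MulAut.conj g).toMonoidHom (MulAut.conj g).injective r).trans S.X.W.T.r_ord)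
  refine ⟨c * g, x, T, ?_, ?_⟩
  · rw [show c * g * σ * (c * g)⁻¹ = c * (g * σ * g⁻¹) * c⁻¹ by group, hg, D.memC.1 hc, mul_inv_cancel_right]
  · rw [show c * g * r * (c * g)⁻¹ = c * (g * r * g⁻¹) * c⁻¹ by group, hcx]

/-- `σ` is the fourth power of `e j`. -/
theorem ej_four : (e * j) ^ 4 = σ := by
  obtain ⟨h, x, T, ht, hx⟩ := S.exists_transport
  have D := T.data
  set e1 := h * e * h⁻¹ with he1
  set j1 := h * j * h⁻¹ with hj1
  have e1sq : e1 * e1 = 1 := conj_sq_one S.e_sq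
  have e1C : e1 ∈ C := D.memC.2 (by rw [← ht]; exact conj_comm S.e_σ)
  have e1x : e1 * x = x * e1 := by rw [← hx]; exact conj_comm S.e_r
  have e1E : e1 ∈ E := by
    obtain ⟨q, y, hq, hqx, hy, heq⟩ := T.cent_C e1C e1x
    have hqy : Commute q y := by
      obtain ⟨i, rfl⟩ := Subgroup.mem_zpowers_iff.1 hy
      exact (show Commute q x from hqx).zpow_right i
    have hyK : y ∈ K := (Subgroup.zpowers_le.2 T.x_mem) hy
    obtain ⟨-, hyy⟩ := T.core.decomp_unique (E.mul_mem hq hq) E.one_mem (K.mul_mem hyK hyK) K.one_mem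
      (show q * q * (y * y) = 1 * 1 by
        rw [one_mul, ← hqy.symm.mul_mul_mul_comm, ← heq, e1sq])
    have hy1 : y = 1 := by
      rcases T.sub_eq_inv hy with h' | h' | h'
      · exact h'
      all_goals
        exfalso
        refine T.x_ne (eq_one_of_two_pows (m := 2) ?_ T.x3 (by norm_num))
        rw [h'] at hyy
      · rw [pow_two, hyy]
      · rw [pow_two, ← inv_inj, mul_inv_rev, hyy, inv_one]
    rw [heq, hy1, mul_one]
    exact hq
  have e1X : e1 ∈ T.S.X := T.S.mem_X.2 ⟨e1E, e1sq, fun h' => S.e_ne.1 (conj_eq_one_iff.1 h'),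
    fun h' => S.e_ne.2 (mul_left_cancel (mul_right_cancel (h'.trans ht.symm)))⟩
  have j1C : j1 ∈ C := D.memC.2 (by rw [← ht]; exact conj_comm S.X.W.T.σ_j.symm)
  have j1sq : j1 * j1 = 1 := conj_sq_one S.X.W.T.j_sq
  have j1x : j1 * x = x⁻¹ * j1 := by
    rw [hj1, ← hx, show h * j * h⁻¹ * (h * r * h⁻¹) = h * (j * r * j⁻¹) * j * h⁻¹ by group, S.X.W.T.j_r]
    group
  have hxC := T.xC
  obtain ⟨q, hq, l, hl, hql⟩ := T.S.decomp j1 j1C
  obtain ⟨hqe, hlx⟩ := D.core.decomp_unique (q := q) (q' := x⁻¹ * q * x) (k := l * x) (k' := x⁻¹ * l) hq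
    (by simpa using T.S.conj_mem x⁻¹ (C.inv_mem hxC) q hq) (K.mul_mem hl T.x_mem)
    (K.mul_mem (K.inv_mem T.x_mem) hl) (by rw [← mul_assoc, ← hql, j1x, hql]; group)
  obtain ⟨-, hll⟩ := D.core.decomp_unique (q := q * (l * q * l⁻¹)) (q' := 1) (k := l * l) (k' := 1)
    (E.mul_mem hq (T.S.conj_mem l (T.S.K_le hl) q hq)) E.one_mem (K.mul_mem hl hl) K.one_mem
    (by rw [one_mul, show q * (l * q * l⁻¹) * (l * l) = q * l * (q * l) by group, ← hql, j1sq])
  have hlx' : l * x * l⁻¹ = x⁻¹ := mul_inv_eq_iff_eq_mul.2 hlx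
  have hl1 : l ≠ 1 := fun h' => by
    rw [h', one_mul, inv_one, mul_one] at hlx'
    exact T.x_ne (eq_one_of_two_pows (m := 2) (by rw [pow_two]; exact mul_eq_one_iff_eq_inv.2 hlx') T.x3
      (by norm_num))
  -- the two pairs
  obtain ⟨u, u', U⟩ := T.exists_Pairs
  have hlC := T.S.K_le hl
  have hsw := U.swap l hl hll hl1 hlx'
  have hprl : ∀ {a b : G}, T.S.pr a = T.S.pr b → T.S.pr (l * a * l⁻¹) = T.S.pr (l * b * l⁻¹) := fun {a b} hab => by
    have hm : a ∈ T.S.pr b := by rw [← hab]; exact T.S.mem_pr.2 (Or.inl rfl)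
    rcases T.S.mem_pr.1 hm with rfl | rfl
    · rfl
    · refine T.S.pr_eq (T.S.mem_pr.2 (Or.inr ?_))
      rw [show l * (b * t) * l⁻¹ = l * b * l⁻¹ * (l * t * l⁻¹) by group, D.memC.1 hlC, mul_inv_cancel_right]
  have hll2 : ∀ a : G, l * (l * a * l⁻¹) * l⁻¹ = a := fun a => by
    rw [show l * (l * a * l⁻¹) * l⁻¹ = (l * l) * a * (l * l)⁻¹ by group, hll]; group
  have hsw' : T.S.pr (l * u' * l⁻¹) = T.S.pr u := by
    rw [← hprl hsw, hll2]
  set c := l * e1 * l⁻¹ with hc
  have hcX : c ∈ T.S.X := T.S.conj_X hlC e1X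
  have hne : T.S.pr e1 ≠ T.S.pr c := by
    rcases U.only e1 e1X e1x with h' | h'
    · rw [h', hc, hprl h', hsw]; exact U.ne
    · rw [h', hc, hprl h', hsw']; exact U.ne.symm
  set d := j1 * e1 * j1⁻¹ with hd
  have hdpr : T.S.pr d = T.S.pr c := by
    refine T.S.pr_eq (T.S.mem_pr.2 ?_)
    have hcE : c ∈ E := T.S.conj_mem l hlC _ e1E
    rw [hd, hql, show q * l * e1 * (q * l)⁻¹ = q * c * q⁻¹ by rw [hc]; group]
    rcases T.S.comm _ hq _ hcE with h' | h'
    · exact Or.inl (mul_inv_eq_iff_eq_mul.2 h')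
    · refine Or.inr (mul_inv_eq_iff_eq_mul.2 ?_)
      rw [h', mul_assoc c t, ← T.S.mul_z hq, ← mul_assoc c, ← T.S.mul_z (E.mul_mem hcE hq)]
  have hdX : d ∈ T.S.X := T.S.conj_X j1C e1X
  have hanti := T.S.anti_of_ne e1X hdX (by rw [hdpr]; exact hne)
  have hdE := (T.S.mem_X.1 hdX).1
  have hd2 := (T.S.mem_X.1 hdX).2.1
  have hsq : (e1 * d) * (e1 * d) = t := by
    calc e1 * d * (e1 * d) = (e1 * d) * e1 * d := by group
      _ = t * (d * e1) * e1 * d := by rw [hanti]
      _ = t * d * (e1 * e1) * d := by group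
      _ = t * (d * d) := by rw [e1sq]; group
      _ = t := by rw [hd2, mul_one]
  have key : h * (e * j) ^ 4 * h⁻¹ = h * σ * h⁻¹ := by
    rw [ht, ← hsq, ← conj_pow, show h * (e * j) * h⁻¹ = e1 * j1 by rw [he1, hj1]; group, hd]
    simp only [pow_succ, pow_zero, one_mul, inv_eq_of_mul_eq_one_right j1sq, mul_assoc]
  exact mul_left_cancel (mul_right_cancel key)

theorem conj_j_local {a b : G} {n : ℕ} (h : a ^ n = 1) (hb : j * a * j⁻¹ = b) : b ^ n = 1 := by
  rw [← hb, conj_pow, h]; group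

/-- The last relation up to a power of `r`. -/
theorem efd_five : ∃ i < 3, (e * f * (j * e * j)) ^ 5 = r ^ i := by
  have W := S.X.W
  obtain ⟨h, x, T, ht, hx⟩ := S.exists_transport
  obtain ⟨φ, -, hφk⟩ := T.exists_hom
  let M := Subgroup.centralizer ({x} : Set G)
  have hmem : ∀ a : G, a * r = r * a → h * a * h⁻¹ ∈ M := fun a ha =>
    Subgroup.mem_centralizer_singleton_iff.2 (by rw [← hx]; exact conj_comm ha)
  set R := Subgroup.centralizer ({r} : Set G)
  let ι : R →* M :=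
    { toFun := fun a => ⟨h * a * h⁻¹, hmem a (Subgroup.mem_centralizer_singleton_iff.1 a.2)⟩
      map_one' := Subtype.ext (by simp)
      map_mul' := fun a b => Subtype.ext (by simp [mul_assoc]) }
  let ψ : R →* Equiv.Perm (Fin 6) := (alternatingGroup (Fin 6)).subtype.comp (φ.comp ι)
  have hψ : ∀ a : R, ψ a = 1 → ∃ i < 3, (a : G) = r ^ i := by
    intro a ha
    have h1 : φ (ι a) = 1 := Subtype.ext ha
    obtain ⟨i, hi, he⟩ := T.pow_x ((hφk _).1 h1)
    refine ⟨i, hi, ?_⟩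
    have : h * (a : G) * h⁻¹ = x ^ i := he
    rw [← hx, conj_pow] at this
    exact mul_left_cancel (mul_right_cancel this)
  have hd : (j * e * j) * (j * e * j) = 1 := by
    rw [show j * e * j * (j * e * j) = j * e * (j * j) * e * j by group, W.T.j_sq, mul_one, mul_assoc j e e,
      S.e_sq, mul_one, W.T.j_sq]
  have hdσ : j * e * j * σ = σ * (j * e * j) :=
    (((show Commute j σ from W.T.σ_j.symm).mul_left S.e_σ).mul_left W.T.σ_j.symm).eq
  have hjf : j * f * j⁻¹ = f⁻¹ := W.T.j_f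
  let F : R := ⟨f, Subgroup.mem_centralizer_singleton_iff.2 W.T.comm.symm⟩
  let Sg : R := ⟨σ, Subgroup.mem_centralizer_singleton_iff.2 W.T.σ_r⟩
  let Ee : R := ⟨e, Subgroup.mem_centralizer_singleton_iff.2 S.e_r⟩
  let Dd : R := ⟨j * e * j, Subgroup.mem_centralizer_singleton_iff.2 S.jej_r⟩
  have key : ∀ {a : R}, (a : G) = 1 → ψ a = 1 := fun {a} ha => by
    rw [show a = 1 from Subtype.ext ha, map_one]
  have hF5 : ψ F ^ 5 = 1 := by rw [← map_pow]; exact key (show f ^ 5 = 1 from W.f5)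
  have hF1 : ψ F ≠ 1 := fun h' => by
    obtain ⟨i, -, hi⟩ := hψ F h'
    have h3 : f ^ 3 = 1 := by
      rw [show f = r ^ i from hi, ← pow_mul, mul_comm, pow_mul, W.r3, one_pow]
    have := orderOf_dvd_of_pow_eq_one h3
    rw [W.T.f_ord] at this
    norm_num at this
  have hS1 : ψ Sg ≠ 1 := fun h' => by
    obtain ⟨i, -, hi⟩ := hψ Sg h'
    refine S.σ_ne (eq_one_of_two_pows (m := 2) (n := 3) (by rw [pow_two, W.T.σ_sq]) ?_ (by norm_num))
    rw [show σ = r ^ i from hi, ← pow_mul, mul_comm, pow_mul, W.r3, one_pow]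
  have hef := S.local_pow (a := e * f) (w := [7, 1]) (n := 5) (by simp [gen]) (by decide)
  have heff := S.local_pow (a := e * f * f) (w := [7, 1, 1]) (n := 3) (by simp [gen, mul_assoc]) (by decide)
  have hsef := S.local_pow (a := σ * e * f⁻¹ * e * f * e * f⁻¹) (w := [5, 7, 2, 7, 1, 7, 2]) (n := 1)
    (by simp [gen, mul_assoc]) (by decide)
  have hje : j * e * j⁻¹ = j * e * j := by rw [S.j_inv]
  have hjfi : j * f⁻¹ * j⁻¹ = f := by rw [show j * f⁻¹ * j⁻¹ = (j * f * j⁻¹)⁻¹ by group, hjf, inv_inv]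
  have hjs : j * σ * j⁻¹ = σ := by rw [← W.T.σ_j, mul_inv_cancel_right]
  have hdf : (j * e * j * f⁻¹) ^ 5 = 1 := S.conj_j_local hef (by rw [← hje, ← hjf]; group)
  have hdff : (j * e * j * f⁻¹ * f⁻¹) ^ 3 = 1 := S.conj_j_local heff (by rw [← hje, ← hjf]; group)
  have hsdf : (σ * (j * e * j) * f * (j * e * j) * f⁻¹ * (j * e * j) * f) ^ 1 = 1 := S.conj_j_local hsef (by
    calc j * (σ * e * f⁻¹ * e * f * e * f⁻¹) * j⁻¹ = (j * σ * j⁻¹) * (j * e * j⁻¹) * (j * f⁻¹ * j⁻¹) *
          (j * e * j⁻¹) * (j * f * j⁻¹) * (j * e * j⁻¹) * (j * f⁻¹ * j⁻¹) := by group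
      _ = _ := by rw [hjs, hje, hjfi, hjf])
  rw [pow_one] at hsef hsdf
  have hsf : σ * f * σ = f⁻¹ := by
    have := W.T.σ_f
    rwa [W.σ_inv] at this
  have h5 := perm6_rel (f := ψ F) (s := ψ Sg) (e := ψ Ee) (d := ψ Dd) hF5 hF1
    (by rw [← map_mul]; exact key (show σ * σ = 1 from W.T.σ_sq)) hS1
    (by rw [← map_mul, ← map_mul, ← map_inv]; exact congrArg ψ (Subtype.ext hsf))
    (by rw [← map_mul]; exact key (show e * e = 1 from S.e_sq))
    (by rw [← map_mul, ← map_mul]; exact congrArg ψ (Subtype.ext S.e_σ))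
    (by rw [← map_mul]; exact key (show j * e * j * (j * e * j) = 1 from hd))
    (by rw [← map_mul, ← map_mul]; exact congrArg ψ (Subtype.ext hdσ))
    (by rw [← map_mul, ← map_pow]; exact key (show (e * f) ^ 5 = 1 from hef))
    (by rw [← map_mul, ← map_mul, ← map_pow]; exact key (show (e * f * f) ^ 3 = 1 from heff))
    (by simp only [← map_inv, ← map_mul]; exact key (show σ * e * f⁻¹ * e * f * e * f⁻¹ = 1 from hsef))
    (by rw [← map_inv, ← map_mul, ← map_pow]; exact key (show (j * e * j * f⁻¹) ^ 5 = 1 from hdf))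
    (by rw [← map_inv, ← map_mul, ← map_mul, ← map_pow]
        exact key (show (j * e * j * f⁻¹ * f⁻¹) ^ 3 = 1 from hdff))
    (by simp only [← map_inv, ← map_mul]
        exact key (show σ * (j * e * j) * f * (j * e * j) * f⁻¹ * (j * e * j) * f = 1 from hsdf))
  rw [← map_mul, ← map_mul, ← map_pow] at h5
  exact hψ ((Ee * F * Dd) ^ 5) h5

end Gens

end CfsgLib.J3Uniq
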