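import Cfsg.Agent.Lib.J3Uniq.Main

/-!
The six generators generate the whole group; two groups of J₃ type are isomorphic.
-/

set_option autoImplicit false
set_option maxHeartbeats 800000
set_option synthInstance.maxSize 512

open scoped Classical

namespace CfsgLib.J3Uniq

open CfsgLib.J3Type CfsgLib.CosetEnum

variable {G : Type*} [Group G] [Finite G] {t k v f r σ j e : G} {E K C : Subgroup G}

theorem Gens.subM_top (S : Gens t k v f r σ j e E K C) [hs : IsSimpleGroup G] :
    subM v f r σ j e = ⊤ := by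
  haveI : Fact (Nat.Prime 19) := ⟨by norm_num⟩
  set M := subM v f r σ j e with hMdef
  have D := S.X.W.P.data
  obtain ⟨x0, y0, w0, s0, F5⟩ := D.exists_Five
  have hc := D.card_eq hs
  obtain ⟨m, hm⟩ := S.subM_dvd
  have hmul := M.card_mul_index
  rw [hc, hm] at hmul
  have hd : M.index ∣ 162 := ⟨m, by
    have : 310080 * (m * M.index) = 310080 * 162 := by rw [← mul_assoc, hmul]
    rw [mul_comm M.index]
    exact (Nat.eq_of_mul_eq_mul_left (by norm_num) this).symm⟩
  have hd' : M.index ∈ ({1, 2, 3, 6, 9, 18, 27, 54, 81, 162} : Finset ℕ) := by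
    have := Nat.mem_divisors.2 ⟨hd, (by norm_num : (162 : ℕ) ≠ 0)⟩
    rwa [show Nat.divisors 162 = {1, 2, 3, 6, 9, 18, 27, 54, 81, 162} by decide +kernel] at this
  simp only [Finset.mem_insert, Finset.mem_singleton] at hd'
  by_contra hne
  by_cases hsmall : M.index ≤ 18
  · haveI : M.FiniteIndex := inferInstance
    have hker : (MulAction.toPermHom G (G ⧸ M)).ker = ⊥ := by
      refine (IsSimpleGroup.eq_bot_or_eq_top_of_normal _ inferInstance).resolve_right fun h => hne ?_
      rw [← Subgroup.normalCore_eq_ker] at h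
      exact top_le_iff.1 (h ▸ M.normalCore_le)
    have hdvd := Subgroup.card_dvd_of_injective _ ((MonoidHom.ker_eq_bot_iff _).1 hker)
    rw [Nat.card_perm, ← Subgroup.index_eq_card, hc] at hdvd
    have := ((Nat.Prime.dvd_factorial (by norm_num : Nat.Prime 19)).1
      (dvd_trans (by norm_num) hdvd))
    omega
  · obtain ⟨P⟩ : Nonempty (Sylow 19 M) := inferInstance
    have h19 : 19 ∣ Nat.card M := S.nineteen_dvd
    have hPc : Nat.card P = 19 := by
      obtain ⟨l, hl⟩ := h19
      refine sylow_card_prime hl ?_ P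
      intro ⟨l', hl'⟩
      have := Subgroup.card_subgroup_dvd_card M
      rw [hc, hl, hl'] at this
      exact absurd (dvd_trans (Dvd.intro l' (by ring : 361 * l' = 19 * (19 * l'))) this) (by norm_num)
    set R' := (P : Subgroup M).map M.subtype with hR'
    have hR'c : Nat.card R' = 19 := by rw [Subgroup.card_map_of_injective M.subtype_injective]; exact hPc
    have hR19 : Nat.card R' = 19 ^ (Nat.card G).factorization 19 := by
      rw [hR'c, hc, show (50232960 : ℕ) = 19 * 2643840 by norm_num,
        Nat.factorization_mul (by norm_num) (by norm_num), Finsupp.add_apply,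
        Nat.Prime.factorization_self (by norm_num : Nat.Prime 19),
        Nat.factorization_eq_zero_of_not_dvd (by norm_num : ¬ 19 ∣ 2643840)]
      norm_num
    obtain ⟨-, hN⟩ := nineteen F5 hs hc (Sylow.ofCard R' hR19)
    rw [Sylow.coe_ofCard] at hN
    set NP := Subgroup.normalizer ((P : Subgroup M) : Set M) with hNP
    have hle : NP.map M.subtype ≤ Subgroup.normalizer (R' : Set G) := by
      rintro _ ⟨a, ha, rfl⟩
      refine Subgroup.mem_normalizer_iff.2 fun b => ⟨?_, ?_⟩
      · rintro ⟨c, hc', rfl⟩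
        exact ⟨a * c * a⁻¹, (Subgroup.mem_normalizer_iff.1 ha c).1 hc', by simp⟩
      · rintro ⟨c, hc', hcb⟩
        refine ⟨a⁻¹ * c * a, ?_, ?_⟩
        · have := (Subgroup.mem_normalizer_iff.1 ha (a⁻¹ * c * a)).2
          exact this (by rw [show a * (a⁻¹ * c * a) * a⁻¹ = c by group]; exact hc')
        · simp only [map_mul, map_inv, hcb]
          simp [mul_assoc]
    have h171 := Subgroup.card_dvd_of_le hle
    rw [Subgroup.card_map_of_injective M.subtype_injective, hN] at h171
    have h19N : 19 ∣ Nat.card NP := by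
      have := Subgroup.card_dvd_of_le (Subgroup.le_normalizer (H := (P : Subgroup M)))
      rwa [show Nat.card (P : Subgroup M) = 19 from hPc] at this
    have h3 : Nat.card NP = 19 ∨ Nat.card NP = 57 ∨ Nat.card NP = 171 := by
      have := Nat.mem_divisors.2 ⟨h171, (by norm_num : (171 : ℕ) ≠ 0)⟩
      rw [show Nat.divisors 171 = {1, 3, 9, 19, 57, 171} by decide +kernel] at this
      simp only [Finset.mem_insert, Finset.mem_singleton] at this
      rcases this with h | h | h | h | h | h <;> omega
    have hn := NP.card_mul_index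
    have h1 := card_sylow_modEq_one 19 M
    rw [Sylow.card_eq_index_normalizer P, Nat.ModEq,
      show (Subgroup.normalizer (P : Set M)) = NP from rfl] at h1
    rw [hm] at hn
    generalize M.index = i at hd' hsmall hmul
    generalize NP.index = n at hn h1
    rcases hd' with rfl | rfl | rfl | rfl | rfl | rfl | rfl | rfl | rfl | rfl <;>
      rcases h3 with h3 | h3 | h3 <;> rw [h3] at hn <;> omega

/-- Two simple groups of J₃ type are isomorphic. -/
theorem iso_of_gens {G : Type*} {J : Type*} [Group G] [Finite G] [IsSimpleGroup G] [Group J] [Finite J]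
    [IsSimpleGroup J] {t k v f r σ j e : G} {E K C : Subgroup G} (S : Gens t k v f r σ j e E K C)
    {t' k' v' f' r' σ' j' e' : J} {E' K' C' : Subgroup J} (S' : Gens t' k' v' f' r' σ' j' e' E' K' C') :
    Nonempty (G ≃* J) := by
  have hG := S.X.W.P.data.card_eq inferInstance
  have hJ := S'.X.W.P.data.card_eq inferInstance
  let p : ℕ → G × J := fun n => (gen v f r σ j e n, gen v' f' r' σ' j' e' n)
  have hfst : ∀ w, (prodW p w).1 = prodW (gen v f r σ j e) w := fun w =>
    map_prodW (MonoidHom.fst G J) p w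
  have hsnd : ∀ w, (prodW p w).2 = prodW (gen v' f' r' σ' j' e') w := fun w =>
    map_prodW (MonoidHom.snd G J) p w
  set H0 := (subH v f r σ j).prod (subH v' f' r' σ' j') with hH0
  have m : Model certM H0 p :=
    { gen_K := Prod.ext S.modelM.gen_K S'.modelM.gen_K
      inv_mul := fun n => Prod.ext (S.modelM.inv_mul n) (S'.modelM.inv_mul n)
      rel := fun x hx => Prod.ext ((hfst x).trans (S.modelM.rel x hx)) ((hsnd x).trans (S'.modelM.rel x hx))
      sub := fun w hw => Subgroup.mem_prod.2
        ⟨(hfst w).symm ▸ S.modelM.sub w hw, (hsnd w).symm ▸ S'.modelM.sub w hw⟩ }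
  obtain ⟨H1, hH1, hc1⟩ := S.exists_H
  obtain ⟨H2, hH2, hc2⟩ := S'.exists_H
  have hH0c : Nat.card H0 = 8160 * 8160 := by
    rw [hH0, Nat.card_congr (Subgroup.prodEquiv _ _).toEquiv, Nat.card_prod, hH1, hH2, hc1, hc2]
  obtain ⟨-, hle⟩ := finite_card_le certM_complete m (8160 * 8160) hH0c.le
  set D := Subgroup.closure {y | ∃ g < certM.K, p g = y} with hD
  rw [show certM.N = 18468 from rfl] at hle
  have hmap1 : D.map (MonoidHom.fst G J) = ⊤ := by
    rw [eq_top_iff, ← S.subM_top, subM, Subgroup.closure_le]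
    rintro y ⟨n, hn, rfl⟩
    exact ⟨p n, Subgroup.subset_closure ⟨n, by rw [certM_info.1]; exact hn, rfl⟩, rfl⟩
  have hmap2 : D.map (MonoidHom.snd G J) = ⊤ := by
    rw [eq_top_iff, ← S'.subM_top, subM, Subgroup.closure_le]
    rintro y ⟨n, hn, rfl⟩
    exact ⟨p n, Subgroup.subset_closure ⟨n, by rw [certM_info.1]; exact hn, rfl⟩, rfl⟩
  let π1 : D →* G := (MonoidHom.fst G J).comp D.subtype
  let π2 : D →* J := (MonoidHom.snd G J).comp D.subtype
  have h1 : Function.Surjective π1 := fun g => by
    obtain ⟨d, hd, hd'⟩ := (hmap1.symm ▸ Subgroup.mem_top g : g ∈ D.map (MonoidHom.fst G J))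
    exact ⟨⟨d, hd⟩, hd'⟩
  have h2 : Function.Surjective π2 := fun g => by
    obtain ⟨d, hd, hd'⟩ := (hmap2.symm ▸ Subgroup.mem_top g : g ∈ D.map (MonoidHom.snd G J))
    exact ⟨⟨d, hd⟩, hd'⟩
  set N := π2.ker.map π1 with hN
  haveI : N.Normal := Subgroup.Normal.map inferInstance π1 h1
  have hNb : N = ⊥ := by
    refine (IsSimpleGroup.eq_bot_or_eq_top_of_normal N inferInstance).resolve_right fun htop => ?_
    have hk : Nat.card G ≤ Nat.card π2.ker := by
      refine Nat.card_le_card_of_surjective (fun a : π2.ker => π1 a) fun g => ?_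
      obtain ⟨a, ha, hga⟩ := (htop.symm ▸ Subgroup.mem_top g : g ∈ N)
      exact ⟨⟨a, ha⟩, hga⟩
    have hm := Subgroup.card_eq_card_quotient_mul_card_subgroup π2.ker
    rw [Nat.card_congr (QuotientGroup.quotientKerEquivOfSurjective π2 h2).toEquiv, hJ] at hm
    rw [hG] at hk
    have := Nat.mul_le_mul_left 50232960 hk
    omega
  have hinj : Function.Injective π2 := by
    refine (injective_iff_map_eq_one π2).2 fun a ha => ?_
    have : π1 a ∈ N := ⟨a, ha, rfl⟩
    rw [hNb, Subgroup.mem_bot] at this
    exact Subtype.ext (Prod.ext this ha)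
  let e2 := MulEquiv.ofBijective π2 ⟨hinj, h2⟩
  have hb : Function.Bijective π1 := (Nat.bijective_iff_surjective_and_card π1).2
    ⟨h1, by rw [Nat.card_congr e2.toEquiv, hJ, hG]⟩
  exact ⟨(MulEquiv.ofBijective π1 hb).symm.trans e2⟩

end CfsgLib.J3Uniq
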